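import Cfsg.Agent.Lib.Sporadic.LargeFischerOuter.Main

/-!
# The statement, given the centraliser of a non-central involution
-/

set_option autoImplicit false
open Cfsg

namespace CfsgLib.Sporadic.LargeFischerOuter

open CfsgLib.Sporadic.LargeFischer

/-- What is used about the centraliser of a non-central involution of `Q`. -/
def NoncentralCentralizer {G : Type*} [Group G] (z : G) (Q : Subgroup (Subgroup.centralizer ({z} : Set G))) : Prop :=
  ∀ t : G, (∃ htc : t ∈ Subgroup.centralizer ({z} : Set G), (⟨t, htc⟩ : Subgroup.centralizer ({z} : Set G)) ∈ Q) →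
    orderOf t = 2 → ¬ IsConj z t →
    ∃ (K : Subgroup ↥(Subgroup.centralizer ({t} : Set G)))
      (_ : ((Subgroup.zpowers t).subgroupOf (Subgroup.centralizer ({t} : Set G))).Normal),
      Cfsg.IsQuasisimple ↥K ∧ K.index = 2 ∧
        (∃ htc : t ∈ Subgroup.centralizer ({t} : Set G), (⟨t, htc⟩ : ↥(Subgroup.centralizer ({t} : Set G))) ∈ K) ∧
        Nonempty (↥(Subgroup.centralizer ({t} : Set G)) ⧸ (Subgroup.zpowers t).subgroupOf (Subgroup.centralizer ({t} : Set G))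
          ≃* MulAut Cfsg.Spor.Fi22)

theorem outer_of_noncentral  {X : Type*} [Group X] [Finite X] (G₀ : Subgroup X) (hidx : G₀.index = 2) (z : ↥G₀) (Q : Subgroup (Subgroup.centralizer ({z} : Set ↥G₀))) [Q.Normal] (hF : Cfsg.IsOfLargeFischerTypeAt z Q) (hcentral : ∃ P : Sylow 2 ↥G₀, z ∈ (P : Subgroup ↥G₀) ∧ ∀ x ∈ (P : Subgroup ↥G₀), Commute x z) (hFX : (Cfsg.generalizedFittingSubgroup ↥(Subgroup.centralizer ({(z : X)} : Set X))).map (Subgroup.subtype _) = ((Q.map (Subgroup.subtype _)).map G₀.subtype)) (h50 : NoncentralCentralizer z Q) :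
    ∃ d : X, orderOf d = 2 ∧ d ∉ G₀ ∧ Commute d (z : X) ∧ ∃ t : ↥(G₀ ⊓ Subgroup.centralizer ({d} : Set X)), orderOf t = 2 ∧ Cfsg.IsQuasisimple ↥(Subgroup.centralizer ({t} : Set ↥(G₀ ⊓ Subgroup.centralizer ({d} : Set X)))) ∧ (∃ (_ : ((Subgroup.zpowers t).subgroupOf (Subgroup.centralizer ({t} : Set ↥(G₀ ⊓ Subgroup.centralizer ({d} : Set X))))).Normal), (∃ E : Set (↥(Subgroup.centralizer ({t} : Set ↥(G₀ ⊓ Subgroup.centralizer ({d} : Set X)))) ⧸ (Subgroup.zpowers t).subgroupOf (Subgroup.centralizer ({t} : Set ↥(G₀ ⊓ Subgroup.centralizer ({d} : Set X))))), Cfsg.IsThreeTranspositionClass E ∧ Cfsg.IsOfTypeM22 _ E) ∧ ∃ d' : ↥(Subgroup.centralizer ({t} : Set ↥(G₀ ⊓ Subgroup.centralizer ({d} : Set X)))) ⧸ (Subgroup.zpowers t).subgroupOf (Subgroup.centralizer ({t} : Set ↥(G₀ ⊓ Subgroup.centralizer ({d} : Set X)))), orderOf d' = 2 ∧ Cfsg.IsQuasisimple ↥(Subgroup.centralizer ({d'} : Set _)) ∧ (∃ (K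 : Type) (_ : Field K) (_ : Fintype K), Fintype.card K = 4 ∧ ∃ _ : ((Subgroup.zpowers d').subgroupOf (Subgroup.centralizer ({d'} : Set _))).Normal, Nonempty (↥(Subgroup.centralizer ({d'} : Set _)) ⧸ (Subgroup.zpowers d').subgroupOf (Subgroup.centralizer ({d'} : Set _)) ≃* Cfsg.PSU 6 K 2)) ∧ ∃ g, g * d' * g⁻¹ ∈ Subgroup.centralizer ({d'} : Set _) ∧ g * d' * g⁻¹ ≠ d') ∧ (∃ g : ↥(G₀ ⊓ Subgroup.centralizer ({d} : Set X)), g * t * g⁻¹ ∈ Subgroup.centralizer ({t} : Set ↥(G₀ ⊓ Subgroup.centralizer ({d} : Set X))) ∧ g * t * g⁻¹ ≠ t) ∧ Cfsg.IsThreeTranspositionClass (conjugatesOf t) ∧ Cfsg.IsOfTypeM23 ↥(G₀ ⊓ Subgroup.centralizer ({d} : Set X)) (conjugatesOf t) := by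
  haveI : G₀.Normal := Subgroup.normal_of_index_eq_two hidx
  haveI := CfsgLib.Sporadic.CosetCert.FiP.finite
  obtain ⟨π, ψ, h⟩ := exists_lf z Q hF
  obtain ⟨t, htQ, ht2, hn⟩ := exists_noncentral h
  obtain ⟨K, hT, hq, hK, htK, ⟨e⟩⟩ := h50 t (mem_qImg.1 htQ) ht2 hn
  haveI := hT
  obtain ⟨d, hO, -⟩ := exists_outer_involution G₀ hidx z Q hF hcentral hFX t htQ ht2 hn K hq hK htK e
  have hTK : (Subgroup.zpowers t).subgroupOf (Subgroup.centralizer ({t} : Set ↥G₀)) ≤ K := by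
    obtain ⟨htc, htK⟩ := htK
    intro a ha
    obtain ⟨i, hi⟩ := Subgroup.mem_subgroupOf.1 ha
    have e1 : a = ⟨t, htc⟩ ^ i := Subtype.ext (by rw [Subgroup.coe_zpow]; exact hi.symm)
    exact e1 ▸ zpow_mem htK i
  obtain ⟨f, σ, hcov⟩ := exists_cover K _ hTK hK hq e
  obtain ⟨tY, -, htY2, hqY, ⟨hnY, hiso⟩, hnwc⟩ := centralizer_model hO ht2 hq hcov.σ_surj hcov.σ_ker
  refine ⟨d, orderOf_eq_prime (hp := ⟨Nat.prime_two⟩) (by rw [pow_two, hO.sq]) (fun e1 => hO.out (e1 ▸ one_mem G₀)),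
    hO.out, hO.comm_z, tY, htY2, hqY, ?_, hnwc, ?_⟩
  · obtain ⟨eY⟩ := id hiso
    exact ⟨hnY, exists_class eY, exists_inner eY⟩
  · haveI := hnY
    exact FiTransfer23.ModelRows.class_and_type (Fi23Centralizer.modelIso tY htY2 hqY hiso hnwc)

end CfsgLib.Sporadic.LargeFischerOuter
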