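import Cfsg.Agent.Lib.Sporadic.Fi22Out.Main
import Cfsg.Agent.Lib.Sporadic.FiTransfer.Instance
import Cfsg.Prelude.Def_CaseTheorems
import Cfsg.Prelude.Def_Transfer

/-!
# An automorphism of a group whose quotient is the automorphism group of Fi22
-/

set_option autoImplicit false
set_option linter.unusedSectionVars false

open Cfsg.Spor
open scoped commutatorElement

namespace CfsgLib.Sporadic.LargeFischerOuter

open CfsgLib.Sporadic CfsgLib.Sporadic.CosetCert CfsgLib.Sporadic.CosetCert.FiP

/-- Homomorphisms from a perfect group agreeing modulo the centre are equal. -/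
theorem perfect_agree {A B : Type*} [Group A] [Group B] (f g : A →* B) (hA : commutator A = ⊤)
    (hc : ∀ a, (f a)⁻¹ * g a ∈ Subgroup.center B) : f = g := by
  refine MonoidHom.ext fun a => ?_
  have hle : commutator A ≤ MonoidHom.eqLocus f g := by
    rw [_root_.commutator_def, Subgroup.commutator_le]
    intro a _ b _
    show f ⁅a, b⁆ = g ⁅a, b⁆
    have ha := Subgroup.mem_center_iff.1 (hc a)
    have hb := Subgroup.mem_center_iff.1 (hc b)
    have ea : g a = f a * ((f a)⁻¹ * g a) := by group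
    have eb : g b = f b * ((f b)⁻¹ * g b) := by group
    rw [map_commutatorElement, map_commutatorElement, ea, eb]
    generalize (f a)⁻¹ * g a = u at ha ⊢
    generalize (f b)⁻¹ * g b = w at hb ⊢
    generalize f a = x at ⊢
    generalize f b = y at ⊢
    rw [commutatorElement_def, commutatorElement_def,
      show x * u * (y * w) * (x * u)⁻¹ * (y * w)⁻¹ = x * (u * y) * w * u⁻¹ * x⁻¹ * w⁻¹ * y⁻¹ by group,
      ← ha y, show x * (y * u) * w * u⁻¹ * x⁻¹ * w⁻¹ * y⁻¹ = x * y * (u * w) * u⁻¹ * x⁻¹ * w⁻¹ * y⁻¹ by group,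
      ← ha w, show x * y * (w * u) * u⁻¹ * x⁻¹ * w⁻¹ * y⁻¹ = x * y * (w * x⁻¹) * w⁻¹ * y⁻¹ by group, ← hb x⁻¹]
    group
  exact hle (hA ▸ Subgroup.mem_top a)

/-- The facts used about a group whose quotient by a central subgroup is the automorphism group of Fi22. -/
structure Cover {C : Type*} [Group C] (K T : Subgroup C) (f : C →* MulAut Fi22) (σ : ↥K →* Fi22) : Prop where
  f_surj : Function.Surjective f
  f_ker : f.ker = T
  σ_surj : Function.Surjective σ
  σ_ker : σ.ker = T.subgroupOf K
  perfect : commutator ↥K = ⊤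
  derived : commutator C = K
  twist : ∀ (c : C) (k k' : ↥K), (k' : C) = c * k * c⁻¹ → σ k' = f c (σ k)

theorem commutator_mem {M : Type*} [Group M] {A : Subgroup M} (hA : A.index = 2) (a b : M) : ⁅a, b⁆ ∈ A := by
  rw [commutatorElement_def]
  simp only [Subgroup.mul_mem_iff_of_index_two hA, inv_mem_iff]
  tauto

theorem index_inn : (Cfsg.Inn Fi22).index = 2 := CfsgLib.Sporadic.CosetCert.FiP.OutFi22.card_out

theorem exists_cover {C : Type*} [Group C] [Finite C] (K T : Subgroup C) [T.Normal] (hTK : T ≤ K)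
    (hK : K.index = 2) (hq : Cfsg.IsQuasisimple ↥K) (e : C ⧸ T ≃* MulAut Fi22) :
    ∃ f σ, Cover K T f σ := by
  classical
  haveI := FiP.finite
  have hperf : commutator ↥K = ⊤ := hq.1.commutator_eq_top
  haveI hKn : K.Normal := Subgroup.normal_of_index_eq_two hK
  let f : C →* MulAut Fi22 := e.toMonoidHom.comp (QuotientGroup.mk' T)
  have hf : Function.Surjective f := e.surjective.comp (QuotientGroup.mk'_surjective _)
  have hker : f.ker = T := by
    ext x
    rw [MonoidHom.mem_ker]
    show e (QuotientGroup.mk x) = 1 ↔ _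
    rw [MulEquiv.map_eq_one_iff, QuotientGroup.eq_one_iff]
  have hKK : K.map f ≤ Cfsg.Inn Fi22 := by
    rw [Subgroup.map_le_iff_le_comap]
    have h1 : commutator ↥K ≤ ((Cfsg.Inn Fi22).comap f).subgroupOf K := by
      rw [_root_.commutator_def, Subgroup.commutator_le]
      intro a _ b _
      show f ((⁅a, b⁆ : ↥K) : C) ∈ Cfsg.Inn Fi22
      rw [← Subgroup.coe_subtype, map_commutatorElement, map_commutatorElement]
      exact commutator_mem index_inn _ _
    intro k hk
    exact h1 (hperf ▸ Subgroup.mem_top (⟨k, hk⟩ : ↥K))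
  have hKimg : K.map f = Cfsg.Inn Fi22 := by
    haveI : Finite (MulAut Fi22) := Finite.of_surjective f hf
    have e1 : (K.map f).index = 2 := by rw [Subgroup.index_map_eq K hf (hker.le.trans hTK), hK]
    have e2 := (K.map f).card_mul_index
    have e3 := (Cfsg.Inn Fi22).card_mul_index
    rw [e1] at e2
    rw [index_inn] at e3
    exact Subgroup.eq_of_le_of_card_ge hKK (by omega)
  have hinj : Function.Injective (MulAut.conj : Fi22 →* MulAut Fi22) := by
    rw [injective_iff_map_eq_one]
    intro a ha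
    have : a ∈ Subgroup.center Fi22 := Subgroup.mem_center_iff.2 fun g => by
      have h1 := congrArg (fun φ : MulAut Fi22 => φ g) ha
      simp only [MulAut.conj_apply, MulAut.one_apply] at h1
      rw [mul_inv_eq_iff_eq_mul] at h1
      exact h1.symm
    rwa [FiTransfer.Instance.center_bot, Subgroup.mem_bot] at this
  have hmem : ∀ k : ↥K, f (k : C) ∈ (MulAut.conj : Fi22 →* MulAut Fi22).range := fun k => by
    have h1 : f (k : C) ∈ Cfsg.Inn Fi22 := hKimg ▸ Subgroup.mem_map_of_mem f k.2
    exact h1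
  let σ : ↥K →* Fi22 := (MonoidHom.ofInjective hinj).symm.toMonoidHom.comp
    ((f.comp K.subtype).codRestrict _ hmem)
  have hσ : ∀ k : ↥K, MulAut.conj (σ k) = f (k : C) := fun k => by
    have := (MonoidHom.ofInjective hinj).apply_symm_apply ⟨f (k : C), hmem k⟩
    exact congrArg Subtype.val this
  refine ⟨f, σ, hf, hker, fun y => ?_, ?_, hperf, ?_, fun c k k' hk => ?_⟩
  · obtain ⟨k, hk, e1⟩ := (hKimg ▸ ⟨y, rfl⟩ : MulAut.conj y ∈ K.map f)
    exact ⟨⟨k, hk⟩, hinj ((hσ _).trans e1)⟩
  · ext k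
    rw [MonoidHom.mem_ker, Subgroup.mem_subgroupOf, ← hker, MonoidHom.mem_ker, ← hσ, ← map_one (MulAut.conj (G := Fi22))]
    exact hinj.eq_iff.symm
  · refine le_antisymm ?_ ?_
    · rw [_root_.commutator_def, Subgroup.commutator_le]
      exact fun a _ b _ => commutator_mem hK a b
    · have h1 := congrArg (Subgroup.map K.subtype) hperf
      rw [_root_.commutator_def, Subgroup.map_commutator, ← MonoidHom.range_eq_map, K.range_subtype] at h1
      rw [_root_.commutator_def, ← h1]
      exact Subgroup.commutator_mono le_top le_top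
  · refine hinj ?_
    rw [hσ, hk, map_mul, map_mul, map_inv, ← hσ]
    ext x
    show (f c) ((σ k) * ((f c)⁻¹ x) * (σ k)⁻¹) = (f c (σ k)) * x * (f c (σ k))⁻¹
    rw [map_mul, map_mul, map_inv, MulAut.apply_inv_self]

namespace Cover

variable {C : Type*} [Group C] [Finite C] {K T : Subgroup C} {f : C →* MulAut Fi22} {σ : ↥K →* Fi22}

/-- What centralises `K` lies in `T`. -/
theorem mem_of_centralizes (h : Cover K T f σ) {c : C} (hc : ∀ k ∈ K, c * k * c⁻¹ = k) : c ∈ T := by
  rw [← h.f_ker, MonoidHom.mem_ker]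
  ext y
  obtain ⟨k, rfl⟩ := h.σ_surj y
  rw [← h.twist c k k (hc k k.2).symm]
  rfl

/-- Every automorphism fixing `T` pointwise acts on `K` as an element of the group. -/
theorem exists_inner_on (h : Cover K T f σ) (hT : T ≤ Subgroup.center C) (β : MulAut C)
    (hβ : ∀ x ∈ T, β x = x) : ∃ c : C, ∀ k ∈ K, β k = c * k * c⁻¹ := by
  classical
  haveI := FiP.finite
  have hK : ∀ k ∈ K, β k ∈ K := fun k hk => by
    rw [← h.derived] at hk ⊢
    have h1 : (commutator C).map β.toMonoidHom = commutator C := by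
      rw [_root_.commutator_def, Subgroup.map_commutator, Subgroup.map_top_of_surjective _ β.surjective]
    exact h1 ▸ Subgroup.mem_map_of_mem β.toMonoidHom hk
  let βK : ↥K →* ↥K := (β.toMonoidHom.comp K.subtype).codRestrict K fun k => hK k k.2
  have hβK : Function.Surjective βK := Finite.surjective_of_injective fun a b e =>
    Subtype.ext (β.injective (congrArg Subtype.val e))
  have hle : σ.ker ≤ (σ.comp βK).ker := by
    intro k hk
    rw [h.σ_ker, Subgroup.mem_subgroupOf] at hk
    show βK k ∈ σ.ker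
    rw [h.σ_ker, Subgroup.mem_subgroupOf]
    show β (k : C) ∈ T
    rw [hβ _ hk]; exact hk
  let γ₀ : Fi22 →* Fi22 := MonoidHom.liftOfSurjective σ h.σ_surj ⟨σ.comp βK, hle⟩
  have hγ₀ : ∀ k, γ₀ (σ k) = σ (βK k) := fun k => MonoidHom.liftOfRightInverse_comp_apply _ _ _ _ k
  have hbij : Function.Bijective γ₀ := Finite.surjective_iff_bijective.1 fun y => by
    obtain ⟨k, rfl⟩ := h.σ_surj y
    obtain ⟨k', rfl⟩ := hβK k
    exact ⟨σ k', hγ₀ k'⟩
  obtain ⟨c, hc⟩ := h.f_surj (MulEquiv.ofBijective γ₀ hbij)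
  haveI : K.Normal := h.derived ▸ inferInstance
  let φ : ↥K →* C := β.toMonoidHom.comp K.subtype
  let φ' : ↥K →* C := (MulAut.conj c).toMonoidHom.comp K.subtype
  refine ⟨c, fun k hk => DFunLike.congr_fun (perfect_agree φ φ' h.perfect fun a => hT ?_) ⟨k, hk⟩⟩
  let a' : ↥K := ⟨c * a * c⁻¹, Subgroup.Normal.conj_mem inferInstance _ a.2 c⟩
  have e : σ (βK a) = σ a' := by
    rw [h.twist c a a' rfl, hc, MulEquiv.ofBijective_apply, hγ₀]
  have h2 : (βK a)⁻¹ * a' ∈ σ.ker := by rw [MonoidHom.mem_ker, map_mul, map_inv, e, inv_mul_cancel]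
  rw [h.σ_ker, Subgroup.mem_subgroupOf] at h2
  exact h2

end Cover

end CfsgLib.Sporadic.LargeFischerOuter
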