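import Cfsg.Agent.Lib.Sporadic.LargeFischerOuter.Fixed

/-!
# The outer element is an involution and some element centralising it moves `t`
-/

set_option autoImplicit false
set_option linter.unusedSectionVars false

namespace CfsgLib.Sporadic.LargeFischerOuter

open CfsgLib.Sporadic.LargeFischer CfsgLib.ThreeTransp.Extraspecial

variable {G : Type*} [Group G] [Finite G] {z : G} {Q : Subgroup (Subgroup.centralizer ({z} : Set G))} [Q.Normal]
  {π : G → V6} {ψ : ↥(Subgroup.centralizer ({z} : Set G)) →* (V6 ≃ₗ[ZMod 2] V6)}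

theorem two_mul_card_le {H K : Subgroup G} (hle : H ≤ K) {x : G} (hx : x ∈ K) (hx' : x ∉ H) :
    2 * Nat.card H ≤ Nat.card K := by
  obtain ⟨n, hn⟩ := Subgroup.card_dvd_of_le hle
  have hK : 0 < Nat.card K := Nat.card_pos
  have : n ≠ 1 := fun e => hx' (by rw [Subgroup.eq_of_le_of_card_ge hle (le_of_eq (by rw [hn, e, mul_one]))]; exact hx)
  have : n ≠ 0 := fun e => by rw [hn, e, mul_zero] at hK; omega
  rw [hn, mul_comm 2]
  exact Nat.mul_le_mul_left _ (by omega)

/-- The part of `Q` centralising a subgroup of index four. -/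
theorem card_centralizer_le {R : Subgroup G} (hR : Extra R z) (hcard : Nat.card R = 8192) {W : Subgroup G}
    (hW : W ≤ R) (hWc : Nat.card W = 2048) :
    Nat.card ↥(R ⊓ Subgroup.centralizer (W : Set G)) ≤ 8 := by
  classical
  haveI := Fintype.ofFinite G
  obtain ⟨x, hxR, hxW⟩ : ∃ x ∈ R, x ∉ W := by
    by_contra hall
    push Not at hall
    have := Subgroup.card_le_of_le (show R ≤ W from hall)
    omega
  set S := W ⊔ Subgroup.zpowers x with hS
  have hSR : S ≤ R := sup_le hW (Subgroup.zpowers_le.2 hxR)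
  have hxS : x ∈ S := Subgroup.mem_sup_right (Subgroup.mem_zpowers x)
  obtain ⟨y, hyR, hgen⟩ : ∃ y ∈ R, R ≤ S ⊔ Subgroup.zpowers y := by
    by_cases hRS : R ≤ S
    · exact ⟨x, hxR, hRS.trans le_sup_left⟩
    · obtain ⟨y, hyR, hyS⟩ := SetLike.not_le_iff_exists.1 hRS
      have h1 : 2 * Nat.card W ≤ Nat.card S := two_mul_card_le le_sup_left hxS hxW
      have h2 : 2 * Nat.card S ≤ Nat.card ↥(S ⊔ Subgroup.zpowers y) := two_mul_card_le le_sup_left
        (Subgroup.mem_sup_right (Subgroup.mem_zpowers y)) hyS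
      exact ⟨y, hyR, (Subgroup.eq_of_le_of_card_ge (sup_le hSR (Subgroup.zpowers_le.2 hyR)) (by omega)).ge⟩
  set A := R ⊓ Subgroup.centralizer (W : Set G) with hA
  let f : ↥A → G × G := fun a => ((a : G) * x * (a : G)⁻¹, (a : G) * y * (a : G)⁻¹)
  haveI := Fintype.ofFinite ↥A
  have h2 : (Finset.univ.image f).card ≤ 4 := by
    refine (Finset.card_le_card (t := ({x, x * z} : Finset G) ×ˢ ({y, y * z} : Finset G)) ?_).trans ?_
    · intro p hp
      obtain ⟨a, -, rfl⟩ := Finset.mem_image.1 hp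
      simp only [Finset.mem_product, Finset.mem_insert, Finset.mem_singleton]
      exact ⟨hR.conj_cases hxR a.2.1, hR.conj_cases hyR a.2.1⟩
    · rw [Finset.card_product]
      exact (Nat.mul_le_mul (Finset.card_le_two) (Finset.card_le_two)).trans (by norm_num)
  have h1 : (Finset.univ : Finset ↥A).card ≤ 2 * (Finset.univ.image f).card := by
    refine Finset.card_le_mul_card_image _ 2 fun p hp => ?_
    obtain ⟨a, -, rfl⟩ := Finset.mem_image.1 hp
    have hsub : ((Finset.univ.filter fun b => f b = f a).image fun b : ↥A => (a : G)⁻¹ * b) ⊆ {1, z} := by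
      intro g hg
      obtain ⟨b, hb, rfl⟩ := Finset.mem_image.1 hg
      obtain ⟨ex, ey⟩ := Prod.ext_iff.1 (Finset.mem_filter.1 hb).2
      have hcom : ∀ u : G, (b : G) * u * (b : G)⁻¹ = (a : G) * u * (a : G)⁻¹ →
          u * ((a : G)⁻¹ * b) = (a : G)⁻¹ * b * u := fun u e => by
        calc u * ((a : G)⁻¹ * b) = (a : G)⁻¹ * ((a : G) * u * (a : G)⁻¹) * b := by group
          _ = (a : G)⁻¹ * b * u := by rw [← e]; group
      have hle : S ⊔ Subgroup.zpowers y ≤ Subgroup.centralizer ({(a : G)⁻¹ * b} : Set G) := by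
        refine sup_le (sup_le (fun w hw => Subgroup.mem_centralizer_singleton_iff.2 ?_) ?_) ?_
        · exact Subgroup.mem_centralizer_iff.1 (mul_mem (inv_mem a.2.2) b.2.2) w hw
        · exact Subgroup.zpowers_le.2 (Subgroup.mem_centralizer_singleton_iff.2 (hcom x ex))
        · exact Subgroup.zpowers_le.2 (Subgroup.mem_centralizer_singleton_iff.2 (hcom y ey))
      simpa using hR.mem_center_cases (mul_mem (inv_mem a.2.1) b.2.1) fun q hq =>
        (Subgroup.mem_centralizer_singleton_iff.1 (hle (hgen hq))).symm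
    rw [← Finset.card_image_of_injective (Finset.univ.filter fun b => f b = f a)
      (show Function.Injective (fun b : ↥A => (a : G)⁻¹ * b) from fun b b' e => Subtype.ext (mul_left_cancel e))]
    exact (Finset.card_le_card hsub).trans Finset.card_le_two
  rw [Nat.card_eq_fintype_card, ← Finset.card_univ]
  omega

/-- The centraliser in `Q` of the fixed part. -/
theorem centralizer_fixed (h : LF z (qImg Q) π ψ) {t : G} {δ : MulAut G} (hA : Act z (qImg Q) t δ)
    {c : ↥(Subgroup.centralizer ({z} : Set G))} (hF : Fixed z (qImg Q) π t ψ δ hA.fix_z c) :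
    (∀ a ∈ qImg Q ⊓ Subgroup.centralizer (fixQ (qImg Q) δ : Set G), δ a = a ∧ a * a = 1 ∧ a * t = t * a) ∧
    Nat.card ↥(qImg Q ⊓ Subgroup.centralizer (fixQ (qImg Q) δ : Set G)) = 8 ∧
    π t ≠ 0 ∧ omV (π t) ≠ π t := by
  classical
  haveI := Fintype.ofFinite G
  set R := qImg Q with hR
  set W := fixQ R δ with hW
  set A := R ⊓ Subgroup.centralizer (W : Set G) with hAdef
  have ht := hA.t_mem
  obtain ⟨hq0, hu⟩ : qs (π t) = 0 ∧ π t ≠ 0 := h.π_involution ht
    (orderOf_eq_prime (hp := ⟨Nat.prime_two⟩) (by rw [pow_two, hA.t_sq]) hA.t_ne_one) hA.t_ne_z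
  set u := π t with hudef
  have hωu : omV u ≠ u := fun e => hu (omV_fix e)
  have htW : t ∈ W := mem_fixQ.2 ⟨ht, hA.fix_t⟩
  have hzW : z ∈ W := mem_fixQ.2 ⟨h.extra.z_mem, hA.fix_z⟩
  set t₂ := (c : G) * t * (c : G)⁻¹ with ht₂
  have ht₂W : t₂ ∈ W := hF.inv t htW
  have hπt₂ : π t₂ = omV u := by rw [ht₂, h.act c t ht, hF.om]
  have htA : t ∈ A := ⟨ht, Subgroup.mem_centralizer_iff.2 fun w hw => hF.comm w hw⟩
  have hzA : z ∈ A := ⟨h.extra.z_mem, Subgroup.mem_centralizer_iff.2 fun w hw => (h.extra.z_comm (mem_fixQ.1 hw).1).symm⟩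
  have hback : ∀ a ∈ W, (c : G)⁻¹ * a * c ∈ W := fun a ha => by
    have h2 := hF.inv _ (hF.inv a ha)
    have e : (c : G)⁻¹ = (c : G) * c := inv_eq_of_mul_eq_one_right (by rw [← pow_two, ← pow_succ', hF.cube])
    rwa [show (c : G) * ((c : G) * a * (c : G)⁻¹) * (c : G)⁻¹ = ((c : G) * c) * a * ((c : G) * c)⁻¹ by group,
      ← e, inv_inv] at h2
  have ht₂A : t₂ ∈ A := ⟨(mem_fixQ.1 ht₂W).1, Subgroup.mem_centralizer_iff.2 fun w hw => by
    have e := hF.comm _ (hback w hw)
    calc w * t₂ = (c : G) * ((c : G)⁻¹ * w * c * t) * (c : G)⁻¹ := by rw [ht₂]; group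
      _ = t₂ * w := by rw [e, ht₂]; group⟩
  have hAcard : Nat.card A ≤ 8 := card_centralizer_le h.extra h.card_Q inf_le_left hF.card
  set sA : Finset G := Finset.univ.filter fun a => a ∈ A with hsA
  have hs : sA.card = Nat.card A := by
    rw [Nat.card_eq_fintype_card, Fintype.card_subtype]
  have hfour : ({0, u, omV u, omV (omV u)} : Finset V6) ⊆ sA.image π := by
    intro v hv
    simp only [Finset.mem_insert, Finset.mem_singleton] at hv
    simp only [hsA, Finset.mem_image, Finset.mem_filter, Finset.mem_univ, true_and]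
    rcases hv with rfl | rfl | rfl | rfl
    · exact ⟨1, one_mem _, h.π_one⟩
    · exact ⟨t, htA, rfl⟩
    · exact ⟨t₂, ht₂A, hπt₂⟩
    · exact ⟨t * t₂, mul_mem htA ht₂A, by rw [h.π_mul _ ht _ (mem_fixQ.1 ht₂W).1, hπt₂, omV_sq]⟩
  have h0 : omV u ≠ 0 := fun e => hu (omV_inj (e.trans omV_zero.symm))
  have h4 : ({0, u, omV u, omV (omV u)} : Finset V6).card = 4 := by
    have h00 : omV (omV u) ≠ 0 := fun e => h0 (omV_inj (e.trans omV_zero.symm))
    have h12 : omV (omV u) ≠ u := fun e => hωu (by have := congrArg omV e; rw [omV_cube] at this; exact this.symm)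
    have h22 : omV (omV u) ≠ omV u := fun e => hωu (omV_inj e)
    simp [hu.symm, h0.symm, h00.symm, hωu.symm, h12.symm, h22.symm]
  have hfib : 2 * (sA.image π).card ≤ sA.card := by
    refine Finset.mul_card_image_le_card _ _ fun v hv => ?_
    obtain ⟨a, ha, rfl⟩ := Finset.mem_image.1 hv
    have haA : a ∈ A := (Finset.mem_filter.1 ha).2
    have hne : a ≠ a * z := fun e => h.extra.z_ne (left_eq_mul.1 e)
    refine (Finset.card_pair hne).ge.trans (Finset.card_le_card fun g hg => ?_)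
    simp only [Finset.mem_insert, Finset.mem_singleton] at hg
    simp only [hsA, Finset.mem_filter, Finset.mem_univ, true_and]
    rcases hg with rfl | rfl
    · exact ⟨haA, rfl⟩
    · exact ⟨mul_mem haA hzA, by rw [h.π_mul _ haA.1 _ h.extra.z_mem, h.π_z, add_zero]⟩
  have hle := Finset.card_le_card hfour
  have himg : sA.image π = {0, u, omV u, omV (omV u)} :=
    (Finset.eq_of_subset_of_card_le hfour (by omega)).symm
  refine ⟨fun a ha => ?_, by omega, hu, hωu⟩
  have hv : π a ∈ sA.image π := Finset.mem_image.2 ⟨a, by simp [hsA, ha], rfl⟩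
  rw [himg] at hv
  simp only [Finset.mem_insert, Finset.mem_singleton] at hv
  have hW' : ∃ b ∈ W, π a = π b := by
    rcases hv with e | e | e | e
    · exact ⟨1, one_mem _, e.trans h.π_one.symm⟩
    · exact ⟨t, htW, e⟩
    · exact ⟨t₂, ht₂W, e.trans hπt₂.symm⟩
    · exact ⟨t * t₂, mul_mem htW ht₂W, by rw [e, h.π_mul _ ht _ (mem_fixQ.1 ht₂W).1, hπt₂, omV_sq]⟩
  obtain ⟨b, hb, hab⟩ := hW'
  have haW : a ∈ W := hF.full a ha.1 b hb hab
  refine ⟨(mem_fixQ.1 haW).2, (h.q_iff a ha.1).1 ?_, hF.comm a haW⟩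
  rcases hv with e | e | e | e <;> rw [e]
  · decide
  · exact hq0
  · rw [qs_omV]; exact hq0
  · rw [qs_omV, qs_omV]; exact hq0

/-- Elements acting modulo `Q` as their images keep the fixed part and differ from their images in its centraliser. -/
theorem diff_mem (h : LF z (qImg Q) π ψ) {t : G} {δ : MulAut G} (hA : Act z (qImg Q) t δ)
    {c : ↥(Subgroup.centralizer ({z} : Set G))} (hF : Fixed z (qImg Q) π t ψ δ hA.fix_z c)
    {g : ↥(Subgroup.centralizer ({z} : Set G))} (hg : ψ (restr δ hA.fix_z g) = ψ g) :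
    (∀ a ∈ fixQ (qImg Q) δ, (g : G) * a * (g : G)⁻¹ ∈ fixQ (qImg Q) δ) ∧
    δ g * (g : G)⁻¹ ∈ qImg Q ⊓ Subgroup.centralizer (fixQ (qImg Q) δ : Set G) := by
  have hnorm : ∀ k : ↥(Subgroup.centralizer ({z} : Set G)), ψ (restr δ hA.fix_z k) = ψ k →
      ∀ a ∈ fixQ (qImg Q) δ, (k : G) * a * (k : G)⁻¹ ∈ fixQ (qImg Q) δ := by
    intro k hk a ha
    have haQ := (mem_fixQ.1 ha).1
    refine hF.full' _ (h.norm _ (Subgroup.mem_centralizer_singleton_iff.1 k.2) _ haQ) ?_
    rw [map_mul, map_mul, map_inv, (mem_fixQ.1 ha).2, ← restr_coe δ hA.fix_z k, h.act _ _ haQ, hk, h.act _ _ haQ]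
  refine ⟨hnorm g hg, ?_, Subgroup.mem_centralizer_iff.2 fun w hw => ?_⟩
  · have h1 : ψ (restr δ hA.fix_z g * g⁻¹) = 1 := by rw [map_mul, map_inv, hg, mul_inv_cancel]
    exact (h.ker _).1 h1
  · have hw' := (mem_fixQ.1 (hnorm g⁻¹ (by rw [map_inv, map_inv, map_inv, hg]) w hw)).2
    simp only [InvMemClass.coe_inv, map_mul, map_inv, inv_inv, (mem_fixQ.1 hw).2] at hw'
    calc w * (δ g * (g : G)⁻¹) = δ g * ((δ g)⁻¹ * w * δ g) * (g : G)⁻¹ := by group
      _ = δ g * ((g : G)⁻¹ * w * g) * (g : G)⁻¹ := by rw [hw']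
      _ = δ g * (g : G)⁻¹ * w := by group

/-- The square of the outer element is not `t`. -/
theorem square_ne (h : LF z (qImg Q) π ψ) {t : G} {δ : MulAut G} (hA : Act z (qImg Q) t δ)
    {c : ↥(Subgroup.centralizer ({z} : Set G))} (hF : Fixed z (qImg Q) π t ψ δ hA.fix_z c) :
    ¬ ∀ g, δ (δ g) = t * g * t⁻¹ := by
  intro hsq
  obtain ⟨hAfix, hA8, hu, hωu⟩ := centralizer_fixed h hA hF
  set A := qImg Q ⊓ Subgroup.centralizer (fixQ (qImg Q) δ : Set G) with hAdef
  obtain ⟨hnorm, hν⟩ := diff_mem h hA hF hF.om'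
  have hcA : ∀ a ∈ A, (c : G) * a * (c : G)⁻¹ ∈ A := by
    intro a ha
    refine ⟨h.norm _ (Subgroup.mem_centralizer_singleton_iff.1 c.2) _ ha.1,
      Subgroup.mem_centralizer_iff.2 fun w hw => ?_⟩
    have hw' := (diff_mem h hA hF (g := c⁻¹) (by rw [map_inv, map_inv, map_inv, hF.om'])).1 w hw
    simp only [InvMemClass.coe_inv, inv_inv] at hw'
    have e := Subgroup.mem_centralizer_iff.1 ha.2 _ hw'
    calc w * ((c : G) * a * (c : G)⁻¹) = (c : G) * ((c : G)⁻¹ * w * c * a) * (c : G)⁻¹ := by group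
      _ = (c : G) * (a * ((c : G)⁻¹ * w * c)) * (c : G)⁻¹ := by rw [e]
      _ = _ := by group
  have hθmem : ∀ a ∈ A, δ c * a * (c : G)⁻¹ ∈ A := fun a ha => by
    have := mul_mem hν (hcA a ha)
    rwa [show δ c * (c : G)⁻¹ * ((c : G) * a * (c : G)⁻¹) = δ c * a * (c : G)⁻¹ by group] at this
  let θ : Equiv.Perm ↥A := Equiv.ofBijective (fun a => ⟨_, hθmem a a.2⟩) (Finite.injective_iff_bijective.1
    fun a b e => Subtype.ext (mul_left_cancel (mul_right_cancel (congrArg Subtype.val e))))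
  have hδ3 : δ c ^ 3 = 1 := by rw [← map_pow, hF.cube, map_one]
  have hθ3 : θ ^ (3 ^ 1) = 1 := by
    refine Equiv.ext fun a => Subtype.ext ?_
    show δ c * (δ c * (δ c * a * (c : G)⁻¹) * (c : G)⁻¹) * (c : G)⁻¹ = a
    rw [show δ c * (δ c * (δ c * (a : G) * (c : G)⁻¹) * (c : G)⁻¹) * (c : G)⁻¹ =
      (δ c * δ c * δ c) * a * ((c : G) * c * c)⁻¹ by group, ← pow_two, ← pow_succ, ← pow_two, ← pow_succ, hδ3,
      hF.cube, one_mul, inv_one, mul_one]
  haveI : Fact (Nat.Prime 3) := ⟨Nat.prime_three⟩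
  haveI := Fintype.ofFinite ↥A
  obtain ⟨q, hq⟩ := Equiv.Perm.exists_fixed_point_of_prime (α := ↥A) (p := 3) (n := 1)
    (by rw [← Nat.card_eq_fintype_card, hA8]; norm_num) hθ3
  have e : δ c * q * (c : G)⁻¹ = q := congrArg Subtype.val hq
  obtain ⟨hqδ, hq2, -⟩ := hAfix q q.2
  have hqi : (q : G)⁻¹ = q := inv_eq_of_mul_eq_one_right hq2
  have hc' : δ c = (q : G) * c * q := by
    calc δ c = δ c * q * (c : G)⁻¹ * c * (q : G)⁻¹ := by group
      _ = _ := by rw [e, hqi]
  have h2 := hsq c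
  rw [hc', map_mul, map_mul, hqδ, hc', show (q : G) * (q * c * q) * q = q * q * c * (q * q) by group, hq2,
    one_mul, mul_one] at h2
  refine hωu ?_
  have e2 : (c : G) * t * (c : G)⁻¹ = t := by
    rw [← mul_inv_eq_iff_eq_mul.1 h2.symm, mul_inv_cancel_right]
  rw [← hF.om, ← h.act c t hA.t_mem, e2]

/-- Some fixed element moves `t`. -/
theorem exists_moving (h : LF z (qImg Q) π ψ) {t : G} {δ : MulAut G} (hA : Act z (qImg Q) t δ)
    {c : ↥(Subgroup.centralizer ({z} : Set G))} (hF : Fixed z (qImg Q) π t ψ δ hA.fix_z c) :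
    ∃ k, δ k = k ∧ k * t * k⁻¹ ≠ t ∧ k * t * k⁻¹ * t = t * (k * t * k⁻¹) := by
  classical
  by_contra hall
  obtain ⟨-, hA8, hu, hωu⟩ := centralizer_fixed h hA hF
  -- the elements to be counted
  let H : Subgroup ↥(Subgroup.centralizer ({z} : Set G)) := MonoidHom.eqLocus (ψ.comp (restr δ hA.fix_z)) ψ
  let F : Subgroup ↥(Subgroup.centralizer ({z} : Set G)) := MonoidHom.eqLocus ((Subgroup.centralizer ({z} : Set G)).subtype.comp (restr δ hA.fix_z)) (Subgroup.centralizer ({z} : Set G)).subtype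
  let S : Subgroup ↥(Subgroup.centralizer ({z} : Set G)) := (Subgroup.centralizer ({t} : Set G)).subgroupOf (Subgroup.centralizer ({z} : Set G))
  have hkerQ : ∀ g : ↥(Subgroup.centralizer ({z} : Set G)), ψ g = 1 ↔ g ∈ Q := fun g => (h.ker g).trans mem_qImg_coe
  have hFS : F ≤ S := by
    intro g hg
    have hgδ : δ (g : G) = g := hg
    by_contra hgS
    have hne : (g : G) * t * (g : G)⁻¹ ≠ t := fun e => hgS
      (Subgroup.mem_subgroupOf.2 (Subgroup.mem_centralizer_singleton_iff.2 (mul_inv_eq_iff_eq_mul.1 e)))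
    refine hall ⟨g, hgδ, hne, hF.comm _ (mem_fixQ.2 ⟨h.norm _ (Subgroup.mem_centralizer_singleton_iff.1 g.2) _ hA.t_mem, ?_⟩)⟩
    rw [map_mul, map_mul, map_inv, hgδ, hA.fix_t]
  have hSH : S ≤ H := by
    intro g hg
    have hgt : (g : G) * t = t * g := Subgroup.mem_centralizer_singleton_iff.1 (Subgroup.mem_subgroupOf.1 hg)
    show ψ (restr δ hA.fix_z g) = ψ g
    rcases hA.half g hgt with e | e
    · exact congrArg ψ (Subtype.ext e)
    · rw [show restr δ hA.fix_z g = g * ⟨t, h.mem_cent hA.t_mem⟩ from Subtype.ext e, map_mul,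
        (h.ker ⟨t, h.mem_cent hA.t_mem⟩).2 hA.t_mem, mul_one]
  have hQH : Q ≤ H := fun g hg => by
    show ψ (restr δ hA.fix_z g) = ψ g
    rw [(hkerQ g).2 hg, (h.ker _).2]
    exact hA.map_Q _ (mem_qImg_coe.2 hg)
  have hQcard : Nat.card Q = 8192 := by
    rw [← h.card_Q]
    exact Nat.card_congr (Subgroup.equivMapOfInjective _ _ (Subgroup.subtype_injective _)).toEquiv
  have hcount : ∀ M : Subgroup ↥(Subgroup.centralizer ({z} : Set G)), Nat.card (Q.subgroupOf M) * Nat.card (M.map ψ) = Nat.card M := by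
    intro M
    have := (ψ.subgroupMap M).ker.card_mul_index
    rw [Subgroup.index_ker, MonoidHom.range_eq_top.2 (MonoidHom.subgroupMap_surjective _ _), Subgroup.card_top] at this
    rwa [show (ψ.subgroupMap M).ker = Q.subgroupOf M by
      ext a
      rw [MonoidHom.mem_ker, Subgroup.mem_subgroupOf, ← hkerQ]
      exact Subtype.ext_iff] at this
  -- the image of `H` is large
  haveI : Finite ↥(ψ.range) := Finite.of_surjective ψ.rangeRestrict ψ.rangeRestrict_surjective
  haveI : ∀ M : Subgroup ↥(Subgroup.centralizer ({z} : Set G)), Finite ↥(M.map ψ) := fun M =>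
    Finite.of_surjective (ψ.subgroupMap M) (MonoidHom.subgroupMap_surjective _ _)
  have hSfix : ∀ s ∈ S.map ψ, s (π t) = π t := by
    rintro _ ⟨g, hg, rfl⟩
    have hgt : (g : G) * t = t * g := Subgroup.mem_centralizer_singleton_iff.1 (Subgroup.mem_subgroupOf.1 hg)
    rw [← h.act g t hA.t_mem, hgt, mul_inv_cancel_right]
  have hcH : c ∈ H := hF.om'
  have himgH : 3 * Nat.card (S.map ψ) ≤ Nat.card (H.map ψ) := by
    let Φ : Fin 3 × ↥(S.map ψ) → ↥(H.map ψ) := fun p => ⟨ψ c ^ (p.1 : ℕ) * p.2,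
      mul_mem (pow_mem (Subgroup.mem_map_of_mem ψ hcH) _) (Subgroup.map_mono hSH p.2.2)⟩
    have hΦ : Function.Injective Φ := by
      rintro ⟨i, s⟩ ⟨j, s'⟩ e
      have e' : ψ c ^ (i : ℕ) * (s : V6 ≃ₗ[ZMod 2] V6) = ψ c ^ (j : ℕ) * s' := congrArg Subtype.val e
      have e2 : (ψ c ^ (i : ℕ)) (π t) = (ψ c ^ (j : ℕ)) (π t) := by
        have := congrArg (fun f : V6 ≃ₗ[ZMod 2] V6 => f (π t)) e'
        simpa [LinearEquiv.mul_apply, hSfix _ s.2, hSfix _ s'.2] using this
      have hij : i = j := by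
        have k1 : (ψ c ^ 0) (π t) = π t := rfl
        have k2 : (ψ c ^ 1) (π t) = omV (π t) := by rw [pow_one, hF.om]
        have k3 : (ψ c ^ 2) (π t) = omV (omV (π t)) := by
          rw [pow_two]; show ψ c (ψ c _) = _; rw [hF.om, hF.om]
        have n2 : omV (omV (π t)) ≠ π t := fun e => hωu (by
          have := congrArg omV e; rw [omV_cube] at this; exact this.symm)
        have n3 : omV (omV (π t)) ≠ omV (π t) := fun e => hωu (omV_inj e)
        fin_cases i <;> fin_cases j <;>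
          first
          | rfl
          | exact absurd (k1.symm.trans (e2.trans k2)).symm hωu
          | exact absurd (k2.symm.trans (e2.trans k1)) hωu
          | exact absurd (k1.symm.trans (e2.trans k3)).symm n2
          | exact absurd (k3.symm.trans (e2.trans k1)) n2
          | exact absurd (k2.symm.trans (e2.trans k3)).symm n3
          | exact absurd (k3.symm.trans (e2.trans k2)) n3
      subst hij
      exact Prod.ext rfl (Subtype.ext (mul_left_cancel e'))
    have := Nat.card_le_card_of_injective Φ hΦ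
    rwa [Nat.card_prod, Nat.card_fin] at this
  have hHcard : 8192 * (3 * Nat.card (S.map ψ)) ≤ Nat.card H := by
    rw [← hcount H, Nat.card_congr (Subgroup.subgroupOfEquivOfLe hQH).toEquiv, hQcard]
    exact Nat.mul_le_mul_left _ himgH
  -- the fixed part is small
  have hFH : F ≤ H := fun g hg => congrArg ψ (Subtype.ext hg : restr δ hA.fix_z g = g)
  have hFcard : Nat.card F ≤ 2048 * Nat.card (S.map ψ) := by
    rw [← hcount F]
    refine Nat.mul_le_mul ?_ (Subgroup.card_le_of_le (Subgroup.map_mono hFS))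
    rw [← hF.card]
    refine Nat.card_le_card_of_injective
      (fun a : ↥(Q.subgroupOf F) => (⟨((a : ↥F) : ↥(Subgroup.centralizer ({z} : Set G))), mem_fixQ.2 ⟨mem_qImg_coe.2 a.2, (a : ↥F).2⟩⟩ : ↥(fixQ (qImg Q) δ))) ?_
    intro a b e
    have e' := congrArg (fun x : ↥(fixQ (qImg Q) δ) => (x : G)) e
    exact Subtype.ext (Subtype.ext (Subtype.ext e'))
  -- the orbit
  have hidx : (F.subgroupOf H).index ≤ 8 := by
    rw [← hA8, Subgroup.index]
    let ν : ↥H → ↥((qImg Q) ⊓ Subgroup.centralizer (fixQ (qImg Q) δ : Set G)) := fun g =>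
      ⟨δ ((g : ↥(Subgroup.centralizer ({z} : Set G))) : G) * ((g : ↥(Subgroup.centralizer ({z} : Set G))) : G)⁻¹, (diff_mem h hA hF g.2).2⟩
    refine Nat.card_le_card_of_injective (Quotient.lift ν ?_) ?_
    · intro a b hab
      have hab' : (a⁻¹ * b : ↥H) ∈ F.subgroupOf H := QuotientGroup.leftRel_apply.1 hab
      have e : δ (((a : ↥(Subgroup.centralizer ({z} : Set G))) : G)⁻¹ * ((b : ↥(Subgroup.centralizer ({z} : Set G))) : G)) = ((a : ↥(Subgroup.centralizer ({z} : Set G))) : G)⁻¹ * ((b : ↥(Subgroup.centralizer ({z} : Set G))) : G) := hab'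
      rw [map_mul, map_inv, inv_mul_eq_iff_eq_mul] at e
      refine Subtype.ext ?_
      show δ _ * _ = δ _ * _
      rw [e]; group
    · intro x y
      induction x using Quotient.inductionOn with | _ a =>
      induction y using Quotient.inductionOn with | _ b =>
      intro e
      refine Quotient.sound (QuotientGroup.leftRel_apply.2 ?_)
      show δ (((a : ↥(Subgroup.centralizer ({z} : Set G))) : G)⁻¹ * ((b : ↥(Subgroup.centralizer ({z} : Set G))) : G)) = ((a : ↥(Subgroup.centralizer ({z} : Set G))) : G)⁻¹ * ((b : ↥(Subgroup.centralizer ({z} : Set G))) : G)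
      have e' : δ ((a : ↥(Subgroup.centralizer ({z} : Set G))) : G) * ((a : ↥(Subgroup.centralizer ({z} : Set G))) : G)⁻¹ = δ ((b : ↥(Subgroup.centralizer ({z} : Set G))) : G) * ((b : ↥(Subgroup.centralizer ({z} : Set G))) : G)⁻¹ := congrArg Subtype.val e
      rw [mul_inv_eq_iff_eq_mul] at e'
      rw [map_mul, map_inv, e']
      group
  have hmul := (F.subgroupOf H).card_mul_index
  rw [Nat.card_congr (Subgroup.subgroupOfEquivOfLe hFH).toEquiv] at hmul
  have hs : 0 < Nat.card (S.map ψ) := Nat.card_pos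
  have h8 : Nat.card H ≤ Nat.card F * 8 := hmul ▸ Nat.mul_le_mul_left _ hidx
  omega

end CfsgLib.Sporadic.LargeFischerOuter
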