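import Cfsg.Agent.Lib.Sporadic.LargeFischerOuter.Frattini
import Cfsg.Agent.Lib.Sporadic.LargeFischerOuter.Kernel
import Cfsg.Agent.Lib.Sporadic.LargeFischerOuter.Moves

/-!
# The outer involution
-/

set_option autoImplicit false
set_option linter.unusedSectionVars false

open Cfsg.Spor

namespace CfsgLib.Sporadic.LargeFischerOuter

open CfsgLib.Sporadic.LargeFischer CfsgLib.ThreeTransp.Extraspecial CfsgLib.Sporadic.CosetCert.FiP

/-- The order of a centraliser is invariant under automorphisms. -/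
theorem card_centralizer_image {G : Type*} [Group G] (e : MulAut G) (a : G) :
    Nat.card ↥(Subgroup.centralizer ({e a} : Set G)) = Nat.card ↥(Subgroup.centralizer ({a} : Set G)) := by
  have h : (Subgroup.centralizer ({a} : Set G)).map e.toMonoidHom = Subgroup.centralizer ({e a} : Set G) := by
    ext y
    rw [Subgroup.mem_map_equiv, Subgroup.mem_centralizer_singleton_iff, Subgroup.mem_centralizer_singleton_iff,
      ← e.injective.eq_iff (a := e.symm y * a), map_mul, map_mul, e.apply_symm_apply]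
  rw [← h, Subgroup.card_map_of_injective e.injective]

/-- The data given by the centraliser of a non-central involution. -/
structure Outer {X : Type*} [Group X] (G₀ : Subgroup X) [G₀.Normal] (z t : ↥G₀)
    (K : Subgroup ↥(Subgroup.centralizer ({t} : Set ↥G₀))) (d : X) : Prop where
  out : d ∉ G₀
  sq : d * d = 1
  comm_z : d * z = z * d
  comm_t : MulAut.conjNormal d t = t
  fixed : ∀ c : ↥(Subgroup.centralizer ({t} : Set ↥G₀)), MulAut.conjNormal d (c : ↥G₀) = (c : ↥G₀) ↔ c ∈ K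
  moving : ∃ k : ↥G₀, MulAut.conjNormal d k = k ∧ k * t * k⁻¹ ≠ t ∧ k * t * k⁻¹ * t = t * (k * t * k⁻¹)

theorem exists_outer_involution {X : Type*} [Group X] [Finite X] (G₀ : Subgroup X) [G₀.Normal] (hidx : G₀.index = 2)
    (z : ↥G₀) (Q : Subgroup (Subgroup.centralizer ({z} : Set ↥G₀))) [Q.Normal]
    (hF : Cfsg.IsOfLargeFischerTypeAt z Q)
    (hcentral : ∃ P : Sylow 2 ↥G₀, z ∈ (P : Subgroup ↥G₀) ∧ ∀ x ∈ (P : Subgroup ↥G₀), Commute x z)
    (hFX : (Cfsg.generalizedFittingSubgroup ↥(Subgroup.centralizer ({(z : X)} : Set X))).map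
      (Subgroup.subtype _) = ((Q.map (Subgroup.subtype _)).map G₀.subtype))
    (t : ↥G₀) (htQ : t ∈ qImg Q) (ht2 : orderOf t = 2) (hn : ¬ IsConj z t)
    (K : Subgroup ↥(Subgroup.centralizer ({t} : Set ↥G₀)))
    [hT : ((Subgroup.zpowers t).subgroupOf (Subgroup.centralizer ({t} : Set ↥G₀))).Normal]
    (hq : Cfsg.IsQuasisimple ↥K) (hK : K.index = 2)
    (htK : ∃ htc : t ∈ Subgroup.centralizer ({t} : Set ↥G₀), (⟨t, htc⟩ : ↥(Subgroup.centralizer ({t} : Set ↥G₀))) ∈ K)
    (e : ↥(Subgroup.centralizer ({t} : Set ↥G₀)) ⧸ (Subgroup.zpowers t).subgroupOf (Subgroup.centralizer ({t} : Set ↥G₀))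
      ≃* MulAut Fi22) :
    ∃ d, Outer G₀ z t K d ∧ Act z (qImg Q) t (MulAut.conjNormal d) := by
  classical
  haveI := CosetCert.FiP.finite
  obtain ⟨g₀, ⟨hq₀, hgQ₀⟩, hne₀⟩ := hF.1.2.2.2.2
  have hu : g₀ * z * g₀⁻¹ ∈ qImg Q := mem_qImg.2 ⟨hq₀, hgQ₀⟩
  obtain ⟨π, ψ, h⟩ := exists_lf z Q hF
  obtain ⟨x, hxG, hxz, hxt⟩ := exists_outer_pair hidx h hu hne₀ hcentral hFX htQ ht2 hn
  obtain ⟨htc, htK⟩ := htK
  have htsq : t * t = 1 := by rw [← pow_two, ← ht2, pow_orderOf_eq_one]
  have hTmem : ∀ c : ↥(Subgroup.centralizer ({t} : Set ↥G₀)), c ∈ ((Subgroup.zpowers t).subgroupOf (Subgroup.centralizer ({t} : Set ↥G₀))) ↔ (c : ↥G₀) = 1 ∨ (c : ↥G₀) = t := fun c =>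
    Subgroup.mem_subgroupOf.trans (mem_zpowers_involution htsq)
  have hTK : ((Subgroup.zpowers t).subgroupOf (Subgroup.centralizer ({t} : Set ↥G₀))) ≤ K := fun c hc => by
    rcases (hTmem c).1 hc with e | e
    · rw [show c = 1 from Subtype.ext e]; exact one_mem _
    · rw [show c = ⟨t, htc⟩ from Subtype.ext e]; exact htK
  obtain ⟨f, σ, hcov⟩ := exists_cover K ((Subgroup.zpowers t).subgroupOf (Subgroup.centralizer ({t} : Set ↥G₀))) hTK hK hq e
  haveI hKn : K.Normal := Subgroup.normal_of_index_eq_two hK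
  have hTc : ((Subgroup.zpowers t).subgroupOf (Subgroup.centralizer ({t} : Set ↥G₀))) ≤ Subgroup.center ↥(Subgroup.centralizer ({t} : Set ↥G₀)) := fun c hc => by
    refine Subgroup.mem_center_iff.2 fun g => Subtype.ext ?_
    show (g : ↥G₀) * c = c * g
    rcases (hTmem c).1 hc with e | e <;> rw [e]
    · rw [mul_one, one_mul]
    · exact Subgroup.mem_centralizer_singleton_iff.1 g.2
  set α := MulAut.conjNormal (H := G₀) x with hα
  have hmapC : ∀ (γ : MulAut ↥G₀), γ t = t → ∀ a ∈ (Subgroup.centralizer ({t} : Set ↥G₀)), γ a ∈ (Subgroup.centralizer ({t} : Set ↥G₀)) := fun γ hγ a ha => by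
    rw [Subgroup.mem_centralizer_singleton_iff] at ha ⊢
    have := congrArg γ ha
    rwa [map_mul, map_mul, hγ] at this
  let β : MulAut ↥(Subgroup.centralizer ({t} : Set ↥G₀)) :=
    { toFun := fun a => ⟨α a, hmapC α hxt a a.2⟩
      invFun := fun a => ⟨α.symm a, hmapC α.symm (α.symm_apply_eq.2 hxt.symm) a a.2⟩
      left_inv := fun a => Subtype.ext (α.symm_apply_apply _)
      right_inv := fun a => Subtype.ext (α.apply_symm_apply _)
      map_mul' := fun a b => Subtype.ext (map_mul α (a : ↥G₀) b) }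
  obtain ⟨c, hc⟩ := hcov.exists_inner_on hTc β fun a ha => Subtype.ext (by
    show α a = a
    rcases (hTmem a).1 ha with e | e <;> rw [e]
    · exact map_one α
    · exact hxt)
  -- the corrected element
  set d : X := (((c : ↥G₀) : X))⁻¹ * x with hd
  have hdG : d ∉ G₀ := fun hm => hxG ((G₀.mul_mem_cancel_left (inv_mem (c : ↥G₀).2)).1 hm)
  set δ := MulAut.conjNormal (H := G₀) d with hδ
  have hδα : ∀ a : ↥G₀, δ a = (c : ↥G₀)⁻¹ * α a * (c : ↥G₀) := fun a => Subtype.ext (by
    simp only [hδ, hd, hα, MulAut.conjNormal_apply, Subgroup.coe_mul, InvMemClass.coe_inv, mul_inv_rev, inv_inv,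
      mul_assoc])
  have hδt : δ t = t := by
    rw [hδα, show α t = t from hxt]
    have hct := Subgroup.mem_centralizer_singleton_iff.1 c.2
    rw [mul_assoc, ← hct, inv_mul_cancel_left]
  have hδK : ∀ k ∈ K, δ (k : ↥G₀) = (k : ↥G₀) := fun k hk => by
    have e1 : α (k : ↥G₀) = (c : ↥G₀) * k * (c : ↥G₀)⁻¹ := congrArg Subtype.val (hc k hk)
    rw [hδα, e1]; group
  have hhalf : ∀ g : ↥G₀, g * t = t * g → δ g = g ∨ δ g = g * t := by
    intro g hg
    have hgC : g ∈ (Subgroup.centralizer ({t} : Set ↥G₀)) := Subgroup.mem_centralizer_singleton_iff.2 hg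
    have hu' : g⁻¹ * δ g ∈ (Subgroup.centralizer ({t} : Set ↥G₀)) := mul_mem (inv_mem hgC) (hmapC δ hδt g hgC)
    have := hcov.mem_of_centralizes (c := ⟨_, hu'⟩) (fun k hk => Subtype.ext (by
      show g⁻¹ * δ g * (k : ↥G₀) * (g⁻¹ * δ g)⁻¹ = k
      have e2 := hδK _ (Subgroup.Normal.conj_mem hKn k hk ⟨g, hgC⟩)
      change δ (g * (k : ↥G₀) * g⁻¹) = g * (k : ↥G₀) * g⁻¹ at e2
      rw [map_mul, map_mul, map_inv, hδK k hk] at e2
      rw [show g⁻¹ * δ g * (k : ↥G₀) * (g⁻¹ * δ g)⁻¹ = g⁻¹ * (δ g * (k : ↥G₀) * (δ g)⁻¹) * g by group, e2]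
      group))
    rcases (hTmem _).1 this with e2 | e2
    · exact Or.inl (inv_mul_eq_one.1 e2).symm
    · exact Or.inr (inv_mul_eq_iff_eq_mul.1 e2)
  -- `d` centralises `z`
  have htz : t ≠ z := fun e => hn (e ▸ IsConj.refl z)
  have ht1 : t ≠ 1 := fun e => by rw [e, orderOf_one] at ht2; omega
  have hzt : z * t = t * z := h.extra.z_comm htQ
  have hδz : δ z = z := by
    refine (hhalf z hzt).resolve_right fun e2 => ?_
    obtain ⟨q, -, hqe⟩ := h.extra.exists_conj_eq htQ ht1 htz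
    have e3 : δ z = MulAut.conj q t := by rw [e2, MulAut.conj_apply, hqe, hzt]
    have hcards := (card_centralizer_image δ z).symm.trans (e3 ▸ card_centralizer_image (MulAut.conj q) t)
    obtain ⟨N, M, -, -, -, -, -, -, -, -, -, -, hCz, -⟩ := h.exists_M hu hne₀
    have hCt : Nat.card ↥(Subgroup.centralizer ({t} : Set ↥G₀)) = 2 * (64561751654400 * 2) := by
      rw [Subgroup.card_eq_card_quotient_mul_card_subgroup ((Subgroup.zpowers t).subgroupOf (Subgroup.centralizer ({t} : Set ↥G₀))), Nat.card_congr e.toEquiv]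
      have h1 : Nat.card ((Subgroup.zpowers t).subgroupOf (Subgroup.centralizer ({t} : Set ↥G₀))) = 2 := by
        rw [Nat.card_congr (Subgroup.subgroupOfEquivOfLe (Subgroup.zpowers_le.2 htc)).toEquiv, Nat.card_zpowers, ht2]
      have h2 : Nat.card (MulAut Fi22) = 64561751654400 * 2 := by
        rw [← (Cfsg.Inn Fi22).card_mul_index, index_inn, ← CosetCert.FiP.card_eq.1]
        congr 1
        refine (Nat.card_congr (MonoidHom.ofInjective (f := (MulAut.conj : Fi22 →* MulAut Fi22)) ?_).toEquiv).symm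
        rw [injective_iff_map_eq_one]
        intro a ha
        have : a ∈ Subgroup.center Fi22 := Subgroup.mem_center_iff.2 fun g => by
          have h1 := congrArg (fun φ : MulAut Fi22 => φ g) ha
          simp only [MulAut.conj_apply, MulAut.one_apply] at h1
          rw [mul_inv_eq_iff_eq_mul] at h1
          exact h1.symm
        rwa [CfsgLib.Sporadic.FiTransfer.Instance.center_bot, Subgroup.mem_bot] at this
      rw [h1, h2, mul_comm]
    rw [hCz, hCt] at hcards
    omega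
  have hdz : d * z = z * d := by
    have := congrArg Subtype.val hδz
    rw [hδ, MulAut.conjNormal_apply] at this
    exact mul_inv_eq_iff_eq_mul.1 this
  have hnoninner : ¬ ∃ q ∈ qImg Q, ∀ a ∈ qImg Q, δ a = q * a * q⁻¹ := by
    rintro ⟨q, hq, hqa⟩
    refine hdG ?_
    have hqz : ((q : X))⁻¹ * d ∈ Subgroup.centralizer ({(z : X)} : Set X) := by
      refine mul_mem (inv_mem ?_) (Subgroup.mem_centralizer_singleton_iff.2 hdz)
      exact Subgroup.mem_centralizer_singleton_iff.2 (congrArg Subtype.val (h.extra.z_comm hq).symm)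
    have hcent : (⟨_, hqz⟩ : ↥(Subgroup.centralizer ({(z : X)} : Set X))) ∈ Subgroup.centralizer
        (Cfsg.generalizedFittingSubgroup ↥(Subgroup.centralizer ({(z : X)} : Set X)) :
          Set ↥(Subgroup.centralizer ({(z : X)} : Set X))) := by
      refine Subgroup.mem_centralizer_iff.2 fun w hw => Subtype.ext ?_
      have hw' : (w : X) ∈ ((Q.map (Subgroup.subtype _)).map G₀.subtype) := hFX ▸ ⟨w, hw, rfl⟩
      obtain ⟨a, ha, ea⟩ := hw'
      show (w : X) * ((q : X)⁻¹ * d) = (q : X)⁻¹ * d * w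
      have e2 : d * (a : X) * d⁻¹ = (q : X) * a * (q : X)⁻¹ := by
        have := congrArg Subtype.val (hqa a ha)
        rw [hδ, MulAut.conjNormal_apply] at this
        exact this
      rw [← show (a : X) = w from ea]
      calc (a : X) * ((q : X)⁻¹ * d) = (q : X)⁻¹ * ((q : X) * a * (q : X)⁻¹) * d := by group
        _ = (q : X)⁻¹ * d * a := by rw [← e2]; group
    have h1 := Subgroup.mem_map_of_mem (Subgroup.subtype _) (CfsgLib.Components.centralizer_generalizedFitting_le hcent)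
    rw [hFX] at h1
    obtain ⟨b, -, eb⟩ := h1
    have eb' : (b : X) = (q : X)⁻¹ * d := eb
    have := mul_mem q.2 b.2
    rwa [eb', mul_inv_cancel_left] at this
  have hA : Act z (qImg Q) t δ :=
    { fix_z := hδz
      fix_t := hδt
      map_Q := fun a ha => conj_mem_qImg hFX hdz ha
      t_mem := htQ
      t_sq := htsq
      t_ne_one := ht1
      t_ne_z := htz
      half := hhalf
      noninner := hnoninner }
  obtain ⟨w, hw⟩ := exists_fixed h hu hne₀ hA
  -- the square
  have hdd : d * d ∈ G₀ := Subgroup.mul_self_mem_of_index_two hidx d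
  set s : ↥G₀ := ⟨d * d, hdd⟩ with hs
  have hδδ : ∀ a : ↥G₀, δ (δ a) = s * a * s⁻¹ := fun a => Subtype.ext (by
    simp only [hδ, hs, MulAut.conjNormal_apply, Subgroup.coe_mul, InvMemClass.coe_inv, mul_inv_rev, mul_assoc])
  have hsC : s ∈ (Subgroup.centralizer ({t} : Set ↥G₀)) := by
    rw [Subgroup.mem_centralizer_singleton_iff]
    exact mul_inv_eq_iff_eq_mul.1 ((hδδ t).symm.trans (by rw [hδt, hδt]))
  have hsT : (⟨s, hsC⟩ : ↥(Subgroup.centralizer ({t} : Set ↥G₀))) ∈ ((Subgroup.zpowers t).subgroupOf (Subgroup.centralizer ({t} : Set ↥G₀))) := hcov.mem_of_centralizes fun k hk => Subtype.ext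
    (((hδδ k).symm.trans (by rw [hδK k hk, hδK k hk])) : s * (k : ↥G₀) * s⁻¹ = (k : ↥G₀))
  have hs1 : d * d = 1 := by
    rcases (hTmem _).1 hsT with e2 | e2
    · exact congrArg Subtype.val e2
    · exact absurd (fun g => by rw [hδδ, show s = t from e2]) (square_ne h hA hw)
  refine ⟨d, ⟨hdG, hs1, hdz, hδt, fun a => ⟨fun ha => ?_, fun ha => hδK a ha⟩, exists_moving h hA hw⟩, hA⟩
  by_contra haK
  obtain ⟨g, hg, hgne⟩ := hw.moved
  set g' : ↥(Subgroup.centralizer ({t} : Set ↥G₀)) := ⟨g, Subgroup.mem_centralizer_singleton_iff.2 hg⟩ with hg'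
  by_cases hgK : g' ∈ K
  · exact hgne (hδK g' hgK)
  · refine hgne ?_
    have e2 := hδK _ ((Subgroup.mul_mem_iff_of_index_two hK).2 (iff_of_false haK hgK))
    change δ ((a : ↥G₀) * g) = a * g at e2
    rw [map_mul, show δ (a : ↥G₀) = a from ha] at e2
    exact mul_left_cancel e2

end CfsgLib.Sporadic.LargeFischerOuter
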