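import Cfsg.Agent.Lib.Sporadic.LargeFischerOuter.Scalar

/-!
# The part of `Q` fixed by the outer automorphism
-/

set_option autoImplicit false
set_option linter.unusedSectionVars false

namespace CfsgLib.Sporadic.LargeFischerOuter

open CfsgLib.Sporadic.LargeFischer

variable {G : Type*} [Group G] [Finite G] {z : G} {Q : Subgroup (Subgroup.centralizer ({z} : Set G))} [Q.Normal]
  {π : G → V6} {ψ : ↥(Subgroup.centralizer ({z} : Set G)) →* (V6 ≃ₗ[ZMod 2] V6)}

/-- An automorphism as induced by an outer element centralising `z` and `t`. -/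
structure Act (z : G) (Q : Subgroup G) (t : G) (δ : MulAut G) : Prop where
  fix_z : δ z = z
  fix_t : δ t = t
  map_Q : ∀ a ∈ Q, δ a ∈ Q
  t_mem : t ∈ Q
  t_sq : t * t = 1
  t_ne_one : t ≠ 1
  t_ne_z : t ≠ z
  half : ∀ g, g * t = t * g → δ g = g ∨ δ g = g * t
  noninner : ¬ ∃ q ∈ Q, ∀ a ∈ Q, δ a = q * a * q⁻¹

/-- The fixed points in `Q`. -/
def fixQ (Q : Subgroup G) (δ : MulAut G) : Subgroup G := Q ⊓ MonoidHom.eqLocus δ.toMonoidHom (MonoidHom.id G)

theorem mem_fixQ {Q : Subgroup G} {δ : MulAut G} {a : G} : a ∈ fixQ Q δ ↔ a ∈ Q ∧ δ a = a := Iff.rfl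

/-- The outcome of this file. -/
structure Fixed (z : G) (Q : Subgroup G) (π : G → V6) (t : G)
    (ψ : ↥(Subgroup.centralizer ({z} : Set G)) →* (V6 ≃ₗ[ZMod 2] V6)) (δ : MulAut G) (hz : δ z = z)
    (c : ↥(Subgroup.centralizer ({z} : Set G))) : Prop where
  cube : (c : G) ^ 3 = 1
  om : ∀ v, ψ c v = omV v
  om' : ψ (restr δ hz c) = ψ c
  card : Nat.card ↥(fixQ Q δ) = 2048
  full : ∀ a ∈ Q, ∀ b ∈ fixQ Q δ, π a = π b → a ∈ fixQ Q δ
  full' : ∀ a ∈ Q, π (δ a) = π a → a ∈ fixQ Q δ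
  inv : ∀ a ∈ fixQ Q δ, (c : G) * a * (c : G)⁻¹ ∈ fixQ Q δ
  comm : ∀ a ∈ fixQ Q δ, a * t = t * a
  moved : ∃ g, g * t = t * g ∧ δ g ≠ g

theorem exists_fixed (h : LF z (qImg Q) π ψ) {g₀ : G} (hu : g₀ * z * g₀⁻¹ ∈ qImg Q) (hne : g₀ * z * g₀⁻¹ ≠ z)
    {t : G} {δ : MulAut G} (hA : Act z (qImg Q) t δ) :
    ∃ c, Fixed z (qImg Q) π t ψ δ hA.fix_z c := by
  classical
  set R := qImg Q with hR
  obtain ⟨c, hc3, hcω, hcη⟩ := scalar_image h hu hne δ hA.fix_z hA.map_Q
  set W := fixQ R δ with hW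
  have hzz := h.extra.z_sq
  -- the elements fixed modulo `z`
  let P : Subgroup G :=
    { carrier := {a | a ∈ R ∧ π (δ a) = π a}
      one_mem' := ⟨one_mem _, by rw [map_one]⟩
      mul_mem' := fun {a b} ha hb => ⟨mul_mem ha.1 hb.1, by
        rw [map_mul, h.π_mul _ (hA.map_Q _ ha.1) _ (hA.map_Q _ hb.1), ha.2, hb.2, ← h.π_mul _ ha.1 _ hb.1]⟩
      inv_mem' := fun {a} ha => ⟨inv_mem ha.1, by
        rw [map_inv, h.π_inv (hA.map_Q _ ha.1), ha.2, h.π_inv ha.1]⟩ }
  have hP : ∀ a, a ∈ P ↔ a ∈ R ∧ π (δ a) = π a := fun a => Iff.rfl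
  have hWP : W ≤ P := fun a ha => ⟨ha.1, by rw [(mem_fixQ.1 ha).2]⟩
  have hPfull : ∀ a ∈ R, ∀ b ∈ P, π a = π b → a ∈ P := by
    intro a ha b hb e
    refine ⟨ha, ?_⟩
    rcases (h.π_eq_iff hb.1 ha).1 e.symm with e1 | e1 <;> subst e1
    · exact hb.2
    · rw [map_mul, hA.fix_z, h.π_mul _ (hA.map_Q _ hb.1) _ h.extra.z_mem, hb.2, h.π_mul _ hb.1 _ h.extra.z_mem]
  -- the fixed part of the half centralising `t`
  set D := R ⊓ Subgroup.centralizer ({t} : Set G) with hD
  have hDcard : Nat.card D = 4096 := h.card_half hA.t_mem hA.t_ne_one hA.t_ne_z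
  have hDt : ∀ a ∈ D, a * t = t * a := fun a ha => Subgroup.mem_centralizer_singleton_iff.1 ha.2
  have hWD : 2048 ≤ Nat.card ↥(W ⊓ D) := by
    by_cases hall : ∀ a ∈ D, δ a = a
    · rw [show W ⊓ D = D from inf_eq_right.2 fun a ha => mem_fixQ.2 ⟨ha.1, hall a ha⟩, hDcard]
      norm_num
    · push Not at hall
      obtain ⟨a₀, ha₀, hne₀⟩ := hall
      have e₀ := (hA.half a₀ (hDt _ ha₀)).resolve_left hne₀
      have hidx : ((W ⊓ D).subgroupOf D).index = 2 := Subgroup.index_eq_two_iff.2 ⟨⟨a₀, ha₀⟩, fun b => by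
        by_cases hb : δ (b : G) = b
        · refine Or.inr ⟨⟨mem_fixQ.2 ⟨b.2.1, hb⟩, b.2⟩, fun hm => hne₀ ?_⟩
          have h1 := (mem_fixQ.1 hm.1).2
          change δ ((b : G) * a₀) = b * a₀ at h1
          rw [map_mul, hb] at h1
          exact mul_left_cancel h1
        · refine Or.inl ⟨⟨mem_fixQ.2 ⟨mul_mem b.2.1 ha₀.1, ?_⟩, mul_mem b.2 ha₀⟩, fun hm => hb (mem_fixQ.1 hm.1).2⟩
          show δ ((b : G) * a₀) = b * a₀
          rw [map_mul, (hA.half b (hDt _ b.2)).resolve_left hb, e₀,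
            show (b : G) * t * (a₀ * t) = b * (t * a₀) * t by group, ← hDt _ ha₀,
            show (b : G) * (a₀ * t) * t = b * a₀ * (t * t) by group, hA.t_sq, mul_one]⟩
      have := ((W ⊓ D).subgroupOf D).card_mul_index
      rw [hidx, Nat.card_congr (Subgroup.subgroupOfEquivOfLe (inf_le_right : W ⊓ D ≤ D)).toEquiv, hDcard] at this
      omega
  have hPcard : 2048 ≤ Nat.card P := hWD.trans (Subgroup.card_le_of_le (inf_le_left.trans hWP))
  have hPR : P ≤ R := fun a ha => ha.1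
  -- not everything
  obtain ⟨y, hy, hyP⟩ : ∃ y ∈ R, y ∉ P := by
    by_contra hall
    push Not at hall
    refine hA.noninner ?_
    have hcase : ∀ a ∈ R, δ a = a ∨ δ a = a * z := fun a ha =>
      (h.π_eq_iff ha (hA.map_Q a ha)).1 (hall a ha).2.symm
    by_cases hWR : ∀ a ∈ R, δ a = a
    · exact ⟨1, one_mem _, fun a ha => by rw [hWR a ha, one_mul, inv_one, mul_one]⟩
    push Not at hWR
    obtain ⟨v, hv, hvne⟩ := hWR
    obtain ⟨q, hq, hqW, hqv⟩ := h.extra.sep (A := W) (fun a ha => ha.1)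
      (mem_fixQ.2 ⟨h.extra.z_mem, hA.fix_z⟩) hv (fun hm => hvne (mem_fixQ.1 hm).2)
    have hvz : δ v = v * z := (hcase v hv).resolve_left hvne
    have hqv' : q * v * q⁻¹ = v * z := h.extra.conj_eq_of_not_comm hv hq hqv
    refine ⟨q, hq, fun a ha => ?_⟩
    rcases hcase a ha with e | e
    · rw [e, hqW a (mem_fixQ.2 ⟨ha, e⟩), mul_inv_cancel_right]
    · have hav : δ (a * v) = a * v := by
        rw [map_mul, e, hvz, show a * z * (v * z) = a * (z * v) * z by group, h.extra.z_comm hv,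
          show a * (v * z) * z = a * v * (z * z) by group, hzz, mul_one]
      have e1 := hqW _ (mem_fixQ.2 ⟨mul_mem ha hv, hav⟩)
      calc δ a = a * z := e
        _ = a * v * (v * z)⁻¹ := by rw [← h.extra.z_comm hv, mul_inv_rev, h.extra.inv_z]; group
        _ = a * v * (q * v * q⁻¹)⁻¹ := by rw [hqv']
        _ = a * v * q * v⁻¹ * q⁻¹ := by group
        _ = q * a * q⁻¹ := by rw [← e1]; group
  -- the scalar commutes with the automorphism
  have hcz := Subgroup.mem_centralizer_singleton_iff.1 c.2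
  have hconj : ∀ a ∈ P, π (δ ((c : G) * a * (c : G)⁻¹)) = ψ (restr δ hA.fix_z c) (π a) := by
    intro a ha
    rw [map_mul, map_mul, map_inv, ← restr_coe δ hA.fix_z c, h.act _ _ (hA.map_Q _ ha.1), ha.2]
  have hη : ∀ v, ψ (restr δ hA.fix_z c) v = omV v := by
    refine hcη.resolve_right fun hη => ?_
    have hsmall : ∀ a ∈ P, (c : G) * a * (c : G)⁻¹ ∈ P → a = 1 ∨ a = z := by
      intro a ha hb
      have e := hconj a ha
      rw [hb.2, h.act c a ha.1, hcω, hη] at e
      exact (h.π_ker a ha.1).1 (omV_fix (omV_inj e.symm))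
    set P' := P.map (MulAut.conj ((c : G)⁻¹)).toMonoidHom with hP'
    have hP'R : P' ≤ R := by
      rintro _ ⟨a, ha, rfl⟩
      exact h.norm _ (Commute.inv_left hcz) _ ha.1
    have hPc : Nat.card P' = Nat.card P := Subgroup.card_map_of_injective (MulAut.conj _).injective
    have i1 := (P.subgroupOf R).card_mul_index
    have i2 := (P'.subgroupOf R).card_mul_index
    have i3 := (P.subgroupOf R ⊓ P'.subgroupOf R).card_mul_index
    have i4 := Subgroup.index_inf_le (H := P.subgroupOf R) (K := P'.subgroupOf R)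
    rw [Nat.card_congr (Subgroup.subgroupOfEquivOfLe hPR).toEquiv, h.card_Q] at i1
    rw [Nat.card_congr (Subgroup.subgroupOfEquivOfLe hP'R).toEquiv, hPc, h.card_Q] at i2
    rw [h.card_Q] at i3
    have i5 : (P.subgroupOf R).index ≤ 4 := by nlinarith
    have i6 : (P'.subgroupOf R).index ≤ 4 := by nlinarith
    have i7 : Nat.card ↥(P.subgroupOf R ⊓ P'.subgroupOf R) ≤ 2 := by
      have hle : (P.subgroupOf R ⊓ P'.subgroupOf R).map R.subtype ≤ Subgroup.zpowers z := by
        rintro _ ⟨a, ⟨ha1, ha2⟩, rfl⟩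
        refine (CfsgLib.ThreeTransp.Extraspecial.mem_zpowers_involution hzz).2 (hsmall _ ha1 ?_)
        obtain ⟨b, hb, e⟩ := ha2
        show (c : G) * (R.subtype a) * (c : G)⁻¹ ∈ P
        have e' : (c : G)⁻¹ * b * (c : G)⁻¹⁻¹ = R.subtype a := e
        rw [← e']
        simpa [mul_assoc] using hb
      have := Subgroup.card_le_of_le hle
      rwa [Subgroup.card_map_of_injective R.subtype_injective, Nat.card_zpowers, h.ord_z] at this
    have i8 : (P.subgroupOf R ⊓ P'.subgroupOf R).index ≤ 16 := i4.trans ((Nat.mul_le_mul i5 i6).trans (by norm_num))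
    nlinarith
  have hinv : ∀ a ∈ P, (c : G) * a * (c : G)⁻¹ ∈ P := fun a ha =>
    ⟨h.norm _ hcz _ ha.1, by rw [hconj a ha, hη, h.act c a ha.1, hcω]⟩
  -- the upper bound
  have hPle : Nat.card P ≤ 2048 := by
    have hmul := (P.subgroupOf R).card_mul_index
    rw [Nat.card_congr (Subgroup.subgroupOfEquivOfLe hPR).toEquiv, h.card_Q] at hmul
    have h1 : (P.subgroupOf R).index ≠ 1 := by
      rw [Ne, Subgroup.index_eq_one, Subgroup.subgroupOf_eq_top]
      exact fun hle => hyP (hle hy)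
    by_contra hlt
    have h4 : (P.subgroupOf R).index ≤ 3 := by nlinarith
    have h2 : (P.subgroupOf R).index = 2 := by
      have hdvd : (P.subgroupOf R).index ∣ 8192 := ⟨Nat.card P, by rw [← hmul, mul_comm]⟩
      interval_cases hi : (P.subgroupOf R).index <;> simp_all <;> omega
    set b := (c : G) * y * (c : G)⁻¹ with hb
    have hbR : b ∈ R := h.norm _ hcz _ hy
    have hback : ∀ x, (c : G) * ((c : G) * ((c : G) * x * (c : G)⁻¹) * (c : G)⁻¹) * (c : G)⁻¹ = x := fun x => by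
      rw [show (c : G) * ((c : G) * ((c : G) * x * (c : G)⁻¹) * (c : G)⁻¹) * (c : G)⁻¹ =
        ((c : G) * c * c) * x * ((c : G) * c * c)⁻¹ by group, show (c : G) * c * c = 1 by
          rw [← pow_two, ← pow_succ, hc3], one_mul, inv_one, mul_one]
    have hbP : b ∉ P := fun hm => hyP (by have := hinv _ (hinv _ hm); rwa [hb, hback] at this)
    have hyb : y * b ∈ P := by
      have := (Subgroup.mul_mem_iff_of_index_two h2 (a := ⟨y, hy⟩) (b := ⟨b, hbR⟩)).2
        (by simp only [Subgroup.mem_subgroupOf]; exact iff_of_false hyP hbP)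
      exact this
    have hb2 : (c : G) * b * (c : G)⁻¹ ∈ P := hPfull _ (h.norm _ hcz _ hbR) _ hyb (by
      rw [h.act c b hbR, h.act c y hy, h.π_mul _ hy _ hbR, h.act c y hy, hcω, hcω, omV_sq])
    exact hyP (by have := hinv _ hb2; rwa [hb, hback] at this)
  have hWcard : Nat.card W = 2048 := le_antisymm ((Subgroup.card_le_of_le hWP).trans hPle)
    (hWD.trans (Subgroup.card_le_of_le inf_le_left))
  have hWeqP : W = P := Subgroup.eq_of_le_of_card_ge hWP (hPle.trans hWcard.ge)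
  have hWleD : W ⊓ D = W := Subgroup.eq_of_le_of_card_ge inf_le_left (hWcard.le.trans hWD)
  refine ⟨c, hc3, hcω, ?_, hWcard, fun a ha b hb e => ?_, fun a ha e => ?_, fun a ha => ?_,
    fun a ha => hDt a (inf_eq_left.1 hWleD ha), ?_⟩
  · exact LinearEquiv.ext fun v => by rw [hη, hcω]
  · show a ∈ W
    rw [hWeqP]; exact hPfull a ha b (hWP hb) e
  · show a ∈ W
    rw [hWeqP]; exact ⟨ha, e⟩
  · show _ ∈ W
    rw [hWeqP]; exact hinv a (hWP ha)
  · by_contra hall
    push Not at hall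
    have hDW : D ≤ W := fun a ha => mem_fixQ.2 ⟨ha.1, hall a (hDt a ha)⟩
    have := Subgroup.card_le_of_le hDW
    omega

end CfsgLib.Sporadic.LargeFischerOuter
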