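import Cfsg.Agent.Lib.Sporadic.LargeFischer.Explicit.InvolutionStabilizer
import Cfsg.Agent.Lib.Sporadic.LargeFischer.PairData

/-!
# An outer element centralising `z` and a non-central involution of `Q`
-/

set_option autoImplicit false
set_option linter.unusedSectionVars false

namespace CfsgLib.Sporadic.LargeFischerOuter

open CfsgLib.Sporadic.LargeFischer CfsgLib.ThreeTransp.Extraspecial

variable {X : Type*} [Group X] [Finite X] {G₀ : Subgroup X} [G₀.Normal] {z : ↥G₀}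
  {Q : Subgroup (Subgroup.centralizer ({z} : Set ↥G₀))}
  {π : ↥G₀ → V6} {ψ : ↥(Subgroup.centralizer ({z} : Set ↥G₀)) →* (V6 ≃ₗ[ZMod 2] V6)}

/-- An element of `X` commuting with `z` normalises `Q`. -/
theorem conj_mem_qImg (hFX : (Cfsg.generalizedFittingSubgroup ↥(Subgroup.centralizer ({(z : X)} : Set X))).map
      (Subgroup.subtype _) = ((Q.map (Subgroup.subtype _)).map G₀.subtype)) {x : X} (hx : x * z = z * x)
    {a : ↥G₀} (ha : a ∈ qImg Q) : MulAut.conjNormal x a ∈ qImg Q := by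
  obtain ⟨w, hw, e⟩ : (a : X) ∈ (Cfsg.generalizedFittingSubgroup ↥(Subgroup.centralizer ({(z : X)} : Set X))).map
      (Subgroup.subtype _) := by
    rw [hFX]; exact ⟨a, ha, rfl⟩
  have hc := (inferInstance : (Cfsg.generalizedFittingSubgroup ↥(Subgroup.centralizer ({(z : X)} : Set X))).Normal).conj_mem w hw
    ⟨x, Subgroup.mem_centralizer_singleton_iff.2 hx⟩
  have h1 : x * (a : X) * x⁻¹ ∈ (Cfsg.generalizedFittingSubgroup ↥(Subgroup.centralizer ({(z : X)} : Set X))).map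
      (Subgroup.subtype _) := ⟨_, hc, by rw [← e]; rfl⟩
  rw [hFX] at h1
  obtain ⟨b, hb, e1⟩ := h1
  rwa [show MulAut.conjNormal x a = b from Subtype.ext (by rw [MulAut.conjNormal_apply]; exact e1.symm)]

/-- Some outer element centralises `z`. -/
theorem exists_outer (hidx : G₀.index = 2) (h : LF z (qImg Q) π ψ)
    (hcentral : ∃ P : Sylow 2 ↥G₀, z ∈ (P : Subgroup ↥G₀) ∧ ∀ x ∈ (P : Subgroup ↥G₀), Commute x z) :
    ∃ x : X, x ∉ G₀ ∧ x * z = z * x := by
  haveI : Fact (Nat.Prime 2) := ⟨Nat.prime_two⟩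
  obtain ⟨P, hzP, hPz⟩ := hcentral
  have hPC : (P : Subgroup ↥G₀) ≤ Subgroup.centralizer ({z} : Set ↥G₀) := fun p hp =>
    Subgroup.mem_centralizer_singleton_iff.2 (hPz p hp).eq
  have hQP : qImg Q ≤ (P : Subgroup ↥G₀) := by
    have hp : IsPGroup 2 ↥((P : Subgroup ↥G₀) ⊔ qImg Q) :=
      P.isPGroup'.to_sup_of_normal_right' h.extra.isPGroup (hPC.trans h.normalizer)
    rw [← P.is_maximal' hp le_sup_left]
    exact le_sup_right
  obtain ⟨x, hxN, hxG⟩ : ∃ x ∈ Subgroup.normalizer (((P : Subgroup ↥G₀).map G₀.subtype : Subgroup X) : Set X), x ∉ G₀ := by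
    by_contra hall
    push Not at hall
    have hle : Subgroup.normalizer (((P : Subgroup ↥G₀).map G₀.subtype : Subgroup X) : Set X) ⊔ G₀ ≤ G₀ :=
      sup_le hall le_rfl
    rw [Sylow.normalizer_sup_eq_top P, top_le_iff] at hle
    rw [hle, Subgroup.index_top] at hidx
    omega
  refine ⟨x, hxG, ?_⟩
  set α := MulAut.conjNormal (H := G₀) x with hα
  have hαP : ∀ p, p ∈ (P : Subgroup ↥G₀) ↔ α p ∈ (P : Subgroup ↥G₀) := by
    intro p
    have h1 := Subgroup.mem_normalizer_iff.1 hxN (p : X)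
    rw [← Subgroup.mem_map_iff_mem (K := (P : Subgroup ↥G₀)) G₀.subtype_injective,
      ← Subgroup.mem_map_iff_mem (K := (P : Subgroup ↥G₀)) G₀.subtype_injective (x := α p)]
    simpa [hα, MulAut.conjNormal_apply] using h1
  have hcomm : ∀ q ∈ qImg Q, α z * q = q * α z := by
    intro q hq
    obtain ⟨p, rfl⟩ := α.surjective q
    rw [← map_mul, ← map_mul, (hPz p ((hαP p).2 (hQP hq))).eq]
  rcases h.extra.mem_center_cases (h.cent_le _ hcomm) hcomm with e | e
  · exact absurd (α.injective (e.trans (map_one α).symm)) h.extra.z_ne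
  · have := congrArg Subtype.val e
    rw [hα, MulAut.conjNormal_apply] at this
    exact mul_inv_eq_iff_eq_mul.1 this

/-- An involution of `Q` not conjugate to `z`. -/
theorem exists_noncentral {G : Type*} [Group G] [Finite G] {z : G} {R : Subgroup G} {π : G → V6}
    {ψ : ↥(Subgroup.centralizer ({z} : Set G)) →* (V6 ≃ₗ[ZMod 2] V6)} (h : LF z R π ψ) :
    ∃ t, t ∈ R ∧ orderOf t = 2 ∧ ¬ IsConj z t := by
  obtain ⟨s, t, hs, ht, os, ot, ns, nt, hne, -⟩ := h.two_classes
  by_cases cs : IsConj z s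
  · exact ⟨t, ht, ot, fun ct => hne (h.one_orbit hs ht cs ct ns nt)⟩
  · exact ⟨s, hs, os, cs⟩

/-- Some outer element centralises `z` and a non-central involution of `Q`. -/
theorem exists_outer_pair (hidx : G₀.index = 2) (h : LF z (qImg Q) π ψ) {g₀ : ↥G₀}
    (hu : g₀ * z * g₀⁻¹ ∈ qImg Q) (hne : g₀ * z * g₀⁻¹ ≠ z)
    (hcentral : ∃ P : Sylow 2 ↥G₀, z ∈ (P : Subgroup ↥G₀) ∧ ∀ x ∈ (P : Subgroup ↥G₀), Commute x z)
    (hFX : (Cfsg.generalizedFittingSubgroup ↥(Subgroup.centralizer ({(z : X)} : Set X))).map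
      (Subgroup.subtype _) = ((Q.map (Subgroup.subtype _)).map G₀.subtype))
    {t : ↥G₀} (ht : t ∈ qImg Q) (ht2 : orderOf t = 2) (hn : ¬ IsConj z t) :
    ∃ x : X, x ∉ G₀ ∧ x * z = z * x ∧ MulAut.conjNormal x t = t := by
  obtain ⟨x, hxG, hxz⟩ := exists_outer hidx h hcentral
  set α := MulAut.conjNormal (H := G₀) x with hα
  have hαz : α z = z := Subtype.ext (by rw [hα, MulAut.conjNormal_apply, hxz, mul_inv_cancel_right])
  have ht' : α t ∈ qImg Q := conj_mem_qImg hFX hxz ht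
  have ht2' : orderOf (α t) = 2 := by rw [MulEquiv.orderOf_eq, ht2]
  have hn' : ¬ IsConj z (α t) := fun hc => hn (by
    have := α.symm.toMonoidHom.map_isConj hc
    rw [MulEquiv.coe_toMonoidHom, α.symm_apply_apply] at this
    rwa [show α.symm z = z from α.symm_apply_eq.2 hαz.symm] at this)
  have e := (h.not_conj_orbit hu hne ht' ht2' hn').trans (h.not_conj_orbit hu hne ht ht2 hn).symm
  obtain ⟨k, ⟨c, rfl⟩, hk⟩ := h.model.mem_orb.1 (e.symm ▸ h.model.self_mem (π t) : π t ∈ h.model.orb (π (α t)))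
  have hv : π t ≠ 0 := (h.π_involution ht ht2 fun e => hn (e ▸ IsConj.refl z)).2
  obtain ⟨d, hd⟩ := h.conj_of_π ht' ht hv c hk
  refine ⟨((d : ↥G₀) : X) * x, fun hm => hxG ((G₀.mul_mem_cancel_left (d : ↥G₀).2).1 hm), ?_, ?_⟩
  · have hdz : ((d : ↥G₀) : X) * z = z * (d : ↥G₀) := congrArg Subtype.val (Subgroup.mem_centralizer_singleton_iff.1 d.2)
    rw [mul_assoc, hxz, ← mul_assoc, hdz, mul_assoc]
  · rw [map_mul]
    show MulAut.conjNormal ((d : ↥G₀) : X) (α t) = t
    conv_rhs => rw [← hd]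
    exact Subtype.ext (by rw [MulAut.conjNormal_apply]; rfl)

end CfsgLib.Sporadic.LargeFischerOuter
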