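import Cfsg.Agent.Lib.Sporadic.FiTransfer.Instance
import Cfsg.Agent.Lib.Sporadic.FiTransfer.InstanceCongr
import Cfsg.Prelude.Def_SporadicB
import Cfsg.Prelude.Def_CaseTheorems

/-!
# The clauses on a group isomorphic to Fi22
-/

set_option autoImplicit false

open Cfsg.Spor

namespace CfsgLib.Sporadic.LargeFischerOuter

open CfsgLib.Sporadic CfsgLib.Sporadic.CosetCert CfsgLib.Sporadic.CosetCert.FiP CfsgLib.Sporadic.FiTransfer

/-- Being quasisimple is carried along isomorphisms. -/
theorem quasisimple_congr {A B : Type*} [Group A] [Group B] (e : A ≃* B) (h : Cfsg.IsQuasisimple A) :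
    Cfsg.IsQuasisimple B := by
  obtain ⟨hp, hs⟩ := h
  refine ⟨⟨?_⟩, (InstanceCongr.centreQuot e.symm).isSimpleGroup⟩
  have := hp.commutator_eq_top
  rw [_root_.commutator_def] at this ⊢
  rw [← Subgroup.map_top_of_surjective e.toMonoidHom e.surjective, ← Subgroup.map_commutator, this]

/-- The centraliser of a transposition in Fi22 is quasisimple. -/
theorem quasisimple_grpH : Cfsg.IsQuasisimple ↥grpH := by
  obtain ⟨hc2, ⟨e⟩, hns⟩ := nonsplitU
  haveI := simple_PSU6
  refine ⟨⟨?_⟩, e.isSimpleGroup⟩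
  let f := e.toMonoidHom.comp (QuotientGroup.mk' (Subgroup.center ↥grpH))
  have hf : Function.Surjective f := e.surjective.comp (QuotientGroup.mk'_surjective _)
  have hfk : f.ker = Subgroup.center ↥grpH := by
    ext x
    rw [MonoidHom.mem_ker]
    show e (QuotientGroup.mk x) = 1 ↔ _
    rw [MulEquiv.map_eq_one_iff, QuotientGroup.eq_one_iff]
  have hnc : (commutator ↥grpH).map f ≠ ⊥ := by
    intro hb
    rw [_root_.commutator_def, Subgroup.map_commutator, Subgroup.map_top_of_surjective f hf,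
      Subgroup.commutator_eq_bot_iff_le_centralizer] at hb
    have htop : Subgroup.center (Cfsg.PSU 6 FieldFour 2) = ⊤ :=
      eq_top_iff.2 fun x _ => Subgroup.mem_center_iff.2 fun y =>
        Subgroup.mem_centralizer_iff.1 (hb (Subgroup.mem_top x)) y (Subgroup.mem_top y)
    rw [Instance.center_PSU6] at htop
    exact bot_ne_top htop
  have hmap : (commutator ↥grpH).map f = ⊤ :=
    (Subgroup.Normal.map inferInstance f hf).eq_bot_or_eq_top.resolve_left hnc
  by_contra hne
  -- otherwise the commutator subgroup is a complement of the centre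
  haveI : Fact (Nat.card ↥(Subgroup.center ↥grpH)).Prime := ⟨by rw [hc2]; exact Nat.prime_two⟩
  rcases ((commutator ↥grpH).subgroupOf (Subgroup.center ↥grpH)).eq_bot_or_eq_top_of_prime_card with hb | ht
  · refine hns (commutator ↥grpH) (Subgroup.isComplement'_of_disjoint_and_mul_eq_univ ?_ ?_)
    · rw [disjoint_iff, Subgroup.eq_bot_iff_forall]
      intro x hx
      have : (⟨x, hx.1⟩ : ↥(Subgroup.center ↥grpH)) ∈ (commutator ↥grpH).subgroupOf (Subgroup.center ↥grpH) := hx.2
      rw [hb, Subgroup.mem_bot] at this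
      exact congrArg Subtype.val this
    · refine Set.eq_univ_of_forall fun x => ?_
      obtain ⟨k, hk, he⟩ := (hmap ▸ Subgroup.mem_top (f x) : f x ∈ (commutator ↥grpH).map f)
      refine Set.mem_mul.2 ⟨x * k⁻¹, ?_, k, hk, inv_mul_cancel_right x k⟩
      show x * k⁻¹ ∈ Subgroup.center ↥grpH
      rw [← hfk, MonoidHom.mem_ker, map_mul, map_inv, he, mul_inv_cancel]
  · refine hne (eq_top_iff.2 fun x _ => ?_)
    obtain ⟨k, hk, he⟩ := (hmap ▸ Subgroup.mem_top (f x) : f x ∈ (commutator ↥grpH).map f)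
    have hz : x * k⁻¹ ∈ Subgroup.center ↥grpH := by
      rw [← hfk, MonoidHom.mem_ker, map_mul, map_inv, he, mul_inv_cancel]
    have := mul_mem (Subgroup.subgroupOf_eq_top.1 ht hz) hk
    rwa [inv_mul_cancel_right] at this

variable {B : Type*} [Group B]

/-- The class of transpositions transported. -/
theorem exists_class (e : B ≃* Fi22) :
    ∃ E : Set B, Cfsg.IsThreeTranspositionClass E ∧ Cfsg.IsOfTypeM22 B E := by
  have hs := Instance.isThreeTranspositionSet
  refine ⟨e.symm '' classTr, ⟨⟨?_, ?_⟩, ⟨e.symm tr, ⟨tr, mem_classTr_self, rfl⟩, ?_⟩, ?_⟩,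
    InstanceCongr.isOfTypeM22_congr e.symm rfl Instance.isOfTypeM22⟩
  · rintro _ ⟨x, hx, rfl⟩
    rw [MulEquiv.orderOf_eq, hs.1 x hx]
  · rintro _ ⟨x, hx, rfl⟩ _ ⟨y, hy, rfl⟩
    refine (hs.2 x hx y hy).imp ?_ ?_ <;>
    · intro h
      rw [← map_mul, ← map_pow, h, map_one]
  · ext y
    show y ∈ _ ↔ IsConj (e.symm tr) y
    constructor
    · rintro ⟨x, hx, rfl⟩
      exact e.symm.toMonoidHom.map_isConj hx
    · intro hy
      refine ⟨e y, ?_, e.symm_apply_apply y⟩
      have := e.toMonoidHom.map_isConj hy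
      show IsConj tr (e y)
      rwa [MulEquiv.coe_toMonoidHom, e.apply_symm_apply] at this
  · rw [show e.symm '' classTr = e.symm.toMonoidHom '' classTr from rfl, ← MonoidHom.map_closure,
      Instance.closure_classTr, Subgroup.map_top_of_surjective _ e.symm.surjective]

/-- The involution whose centraliser covers `U₆(2)`. -/
theorem exists_inner (e : B ≃* Fi22) :
    ∃ d' : B, orderOf d' = 2 ∧ Cfsg.IsQuasisimple ↥(Subgroup.centralizer ({d'} : Set B)) ∧
      (∃ (K : Type) (_ : Field K) (_ : Fintype K), Fintype.card K = 4 ∧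
        ∃ _ : ((Subgroup.zpowers d').subgroupOf (Subgroup.centralizer ({d'} : Set B))).Normal,
          Nonempty (↥(Subgroup.centralizer ({d'} : Set B)) ⧸
            (Subgroup.zpowers d').subgroupOf (Subgroup.centralizer ({d'} : Set B)) ≃* Cfsg.PSU 6 K 2)) ∧
      ∃ g, g * d' * g⁻¹ ∈ Subgroup.centralizer ({d'} : Set B) ∧ g * d' * g⁻¹ ≠ d' := by
  set d' := e.symm tr with hd'
  have htr2 : orderOf tr = 2 := orderOf_eq_prime (hp := ⟨Nat.prime_two⟩) (by rw [pow_two, tr_mul_self]) tr_ne_one
  have hmap : grpH.map e.symm.toMonoidHom = Subgroup.centralizer ({d'} : Set B) := by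
    ext y
    rw [Subgroup.mem_map_equiv, MulEquiv.symm_symm, ← centralizer_tr, Subgroup.mem_centralizer_singleton_iff,
      Subgroup.mem_centralizer_singleton_iff, ← e.injective.eq_iff (a := y * d'), map_mul, map_mul, hd',
      e.apply_symm_apply]
  let E : ↥grpH ≃* ↥(Subgroup.centralizer ({d'} : Set B)) :=
    (e.symm.subgroupMap grpH).trans (MulEquiv.subgroupCongr hmap)
  have hE : ∀ x : ↥grpH, ((E x : B)) = e.symm x := fun x => rfl
  have htH : tr ∈ grpH := by rw [← centralizer_tr]; exact Subgroup.mem_centralizer_singleton_iff.2 rfl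
  have hzc : (Subgroup.zpowers tr).subgroupOf grpH = Subgroup.center ↥grpH := by
    haveI := FiP.finite
    refine Subgroup.eq_of_le_of_card_ge (fun x hx => ?_) (le_of_eq ?_)
    · obtain ⟨i, hi⟩ := Subgroup.mem_subgroupOf.1 hx
      refine Subgroup.mem_center_iff.2 fun g => Subtype.ext ?_
      show (g : Fi22) * x = x * g
      have hg : Commute (g : Fi22) tr := Subgroup.mem_centralizer_singleton_iff.1 (grpH_le g.2)
      rw [← hi]
      exact hg.zpow_right i
    · rw [nonsplitU.1, Nat.card_congr (Subgroup.subgroupOfEquivOfLe (Subgroup.zpowers_le.2 htH)).toEquiv,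
        Nat.card_zpowers, htr2]
  have hcent : ((Subgroup.zpowers d').subgroupOf (Subgroup.centralizer ({d'} : Set B))) =
      (Subgroup.center ↥grpH).map E.toMonoidHom := by
    rw [← hzc]
    ext y
    rw [Subgroup.mem_subgroupOf, Subgroup.mem_map_equiv, Subgroup.mem_subgroupOf]
    obtain ⟨x, rfl⟩ := E.surjective y
    rw [E.symm_apply_apply, hE, hd']
    constructor
    · rintro ⟨i, hi⟩
      refine ⟨i, ?_⟩
      have := congrArg e hi
      simpa using this
    · rintro ⟨i, hi⟩
      refine ⟨i, ?_⟩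
      show (e.symm tr) ^ i = _
      rw [← hi]
      exact (map_zpow e.symm tr i).symm
  have hn : ((Subgroup.zpowers d').subgroupOf (Subgroup.centralizer ({d'} : Set B))).Normal :=
    hcent ▸ Subgroup.Normal.map inferInstance E.toMonoidHom E.surjective
  refine ⟨d', by rw [hd', MulEquiv.orderOf_eq, htr2], quasisimple_congr E quasisimple_grpH,
    ⟨FieldFour, inferInstance, inferInstance, FieldFour.card_eq, hn, ?_⟩, ?_⟩
  · obtain ⟨f⟩ := nonsplitU.2.1
    haveI := hn
    exact ⟨(QuotientGroup.congr (Subgroup.center ↥grpH) _ E hcent.symm).symm.trans f⟩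
  · obtain ⟨y, hy, hyne, hyc⟩ := Instance.nbSet_nonempty
    obtain ⟨g, hg⟩ := isConj_iff.1 hy
    have he : e.symm g * d' * (e.symm g)⁻¹ = e.symm y := by rw [hd', ← map_inv, ← map_mul, ← map_mul, hg]
    refine ⟨e.symm g, ?_, ?_⟩
    · rw [he, hd', Subgroup.mem_centralizer_singleton_iff, ← map_mul, ← map_mul, hyc.eq]
    · rw [he, hd']
      exact fun e' => hyne (e.symm.injective e')

end CfsgLib.Sporadic.LargeFischerOuter
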