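import Cfsg.Agent.Lib.Sporadic.LargeFischerOuter.Element
import Cfsg.Agent.Lib.Sporadic.LargeFischerOuter.Inner
import Cfsg.Agent.Lib.Sporadic.Fi23Centralizer.Main
import Cfsg.Agent.Lib.Sporadic.FiTransfer23.ModelRows

/-!
# The centraliser of the outer involution is of type M(23)
-/

set_option autoImplicit false
set_option linter.unusedSectionVars false

open Cfsg.Spor

namespace CfsgLib.Sporadic.LargeFischerOuter

open CfsgLib.Sporadic.LargeFischer

variable {X : Type*} [Group X] [Finite X] {G₀ : Subgroup X} [G₀.Normal] {z t : ↥G₀}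
  {K : Subgroup ↥(Subgroup.centralizer ({t} : Set ↥G₀))} {d : X}

theorem conjNormal_fix_iff (g : ↥G₀) : MulAut.conjNormal d g = g ↔ (g : X) * d = d * g := by
  rw [Subtype.ext_iff, MulAut.conjNormal_apply, mul_inv_eq_iff_eq_mul]
  exact eq_comm

theorem centralizer_model (hO : Outer G₀ z t K d) (ht2 : orderOf t = 2) (hq : Cfsg.IsQuasisimple ↥K)
    {σ : ↥K →* Fi22} (hσ : Function.Surjective σ)
    (hσk : σ.ker = ((Subgroup.zpowers t).subgroupOf (Subgroup.centralizer ({t} : Set ↥G₀))).subgroupOf K) :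
    ∃ tY : ↥(G₀ ⊓ Subgroup.centralizer ({d} : Set X)), (tY : X) = t ∧ orderOf tY = 2 ∧
      Cfsg.IsQuasisimple ↥(Subgroup.centralizer ({tY} : Set ↥(G₀ ⊓ Subgroup.centralizer ({d} : Set X)))) ∧
      (∃ (_ : ((Subgroup.zpowers tY).subgroupOf (Subgroup.centralizer ({tY} : Set ↥(G₀ ⊓ Subgroup.centralizer ({d} : Set X))))).Normal),
        Cfsg.Spor.IsoFi22 (↥(Subgroup.centralizer ({tY} : Set ↥(G₀ ⊓ Subgroup.centralizer ({d} : Set X)))) ⧸
          (Subgroup.zpowers tY).subgroupOf (Subgroup.centralizer ({tY} : Set ↥(G₀ ⊓ Subgroup.centralizer ({d} : Set X)))))) ∧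
      ∃ g, g * tY * g⁻¹ ∈ Subgroup.centralizer ({tY} : Set ↥(G₀ ⊓ Subgroup.centralizer ({d} : Set X))) ∧
        g * tY * g⁻¹ ≠ tY := by
  set Y := G₀ ⊓ Subgroup.centralizer ({d} : Set X) with hY
  have htd : (t : X) * d = d * t := (conjNormal_fix_iff t).1 hO.comm_t
  set tY : ↥Y := ⟨t, t.2, Subgroup.mem_centralizer_singleton_iff.2 htd⟩ with htY
  have ht2' : orderOf tY = 2 := by
    rw [← Subgroup.orderOf_coe, ← ht2, ← Subgroup.orderOf_coe t]
  set C := Subgroup.centralizer ({tY} : Set ↥Y) with hC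
  have hfix : ∀ k : ↥K, ((k : ↥G₀) : X) * d = d * (k : ↥G₀) := fun k =>
    (conjNormal_fix_iff _).1 ((hO.fixed _).2 k.2)
  have hkt : ∀ k : ↥K, ((k : ↥G₀) : X) * t = t * (k : ↥G₀) := fun k => by
    have e := Subgroup.mem_centralizer_singleton_iff.1 (k : ↥(Subgroup.centralizer ({t} : Set ↥G₀))).2
    exact congrArg Subtype.val e
  let J : ↥K →* ↥C :=
    { toFun := fun k => ⟨⟨((k : ↥G₀) : X), (k : ↥G₀).2, Subgroup.mem_centralizer_singleton_iff.2 (hfix k)⟩,
        Subgroup.mem_centralizer_singleton_iff.2 (Subtype.ext (hkt k))⟩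
      map_one' := rfl
      map_mul' := fun a b => rfl }
  have hJ : Function.Bijective J := by
    refine ⟨fun a b e => Subtype.ext (Subtype.ext (Subtype.ext (congrArg (fun x : ↥C => ((x : ↥Y) : X)) e))), fun y => ?_⟩
    set g : ↥G₀ := ⟨((y : ↥Y) : X), (y : ↥Y).2.1⟩ with hg
    have e := Subgroup.mem_centralizer_singleton_iff.1 y.2
    have hgt : g * t = t * g := Subtype.ext (congrArg (fun a : ↥Y => (a : X)) e :)
    have hgK := (hO.fixed ⟨g, Subgroup.mem_centralizer_singleton_iff.2 hgt⟩).1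
      ((conjNormal_fix_iff g).2 (Subgroup.mem_centralizer_singleton_iff.1 (y : ↥Y).2.2))
    exact ⟨⟨_, hgK⟩, rfl⟩
  let Je := MulEquiv.ofBijective J hJ
  have hn : ((Subgroup.zpowers tY).subgroupOf C).Normal := by
    refine ⟨fun a ha g => ?_⟩
    have hcomm : Commute (g : ↥Y) tY := Subgroup.mem_centralizer_singleton_iff.1 g.2
    rw [Subgroup.mem_subgroupOf] at ha ⊢
    obtain ⟨i, hi⟩ := ha
    have e : (a : ↥Y) = tY ^ i := hi.symm
    show (g : ↥Y) * a * (g : ↥Y)⁻¹ ∈ _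
    rw [e, (hcomm.zpow_right i).eq, mul_inv_cancel_right]
    exact ⟨i, rfl⟩
  let τ : ↥C →* Fi22 := σ.comp Je.symm.toMonoidHom
  have hτ : Function.Surjective τ := hσ.comp Je.symm.surjective
  have hτk : τ.ker = (Subgroup.zpowers tY).subgroupOf C := by
    ext y
    obtain ⟨k, rfl⟩ := Je.surjective y
    rw [MonoidHom.mem_ker]
    show σ (Je.symm (Je k)) = 1 ↔ _
    rw [Je.symm_apply_apply, ← MonoidHom.mem_ker, hσk, Subgroup.mem_subgroupOf, Subgroup.mem_subgroupOf,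
      Subgroup.mem_subgroupOf]
    constructor
    · rintro ⟨i, hi⟩
      exact ⟨i, Subtype.ext (by
        show ((tY ^ i : ↥Y) : X) = ((k : ↥G₀) : X)
        rw [← hi, Subgroup.coe_zpow, Subgroup.coe_zpow])⟩
    · rintro ⟨i, hi⟩
      refine ⟨i, Subtype.ext ?_⟩
      have e : ((tY ^ i : ↥Y) : X) = ((k : ↥G₀) : X) := congrArg Subtype.val hi
      rw [Subgroup.coe_zpow] at e
      show ((t ^ i : ↥G₀) : X) = _
      rw [Subgroup.coe_zpow]
      exact e
  refine ⟨tY, rfl, ht2', quasisimple_congr Je hq, ⟨hn, ?_⟩, ?_⟩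
  · haveI := hn
    exact ⟨(QuotientGroup.quotientMulEquivOfEq hτk.symm).trans (QuotientGroup.quotientKerEquivOfSurjective τ hτ)⟩
  · obtain ⟨k, hk, hkne, hkc⟩ := hO.moving
    refine ⟨⟨k, k.2, Subgroup.mem_centralizer_singleton_iff.2 ((conjNormal_fix_iff k).1 hk)⟩, ?_, ?_⟩
    · exact Subgroup.mem_centralizer_singleton_iff.2 (Subtype.ext
        (show (k : X) * t * (k : X)⁻¹ * t = t * ((k : X) * t * (k : X)⁻¹) from congrArg Subtype.val hkc))
    · exact fun e => hkne (Subtype.ext (congrArg (fun a : ↥Y => (a : X)) e))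

end CfsgLib.Sporadic.LargeFischerOuter
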