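import Cfsg.Agent.Lib.Sporadic.LargeFischer.PairData
import Cfsg.Agent.Lib.Sporadic.LargeFischer.Invariant

/-!
# An automorphism fixing `z` permutes the scalars modulo `Q`
-/

set_option autoImplicit false
set_option linter.unusedSectionVars false

namespace CfsgLib.Sporadic.LargeFischerOuter

open CfsgLib.Sporadic.LargeFischer

variable {G : Type*} [Group G] [Finite G] {z : G} {Q : Subgroup (Subgroup.centralizer ({z} : Set G))} [Q.Normal]
  {π : G → V6} {ψ : ↥(Subgroup.centralizer ({z} : Set G)) →* (V6 ≃ₗ[ZMod 2] V6)}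

theorem omV_fix {v : V6} (e : omV v = v) : v = 0 :=
  funext fun i => (omV_om (v i)).2.2 (congrFun e i)

/-- An automorphism fixing `z`, restricted to the centraliser of `z`. -/
theorem map_cent (δ : MulAut G) (hz : δ z = z) {g : G} (hg : g ∈ Subgroup.centralizer ({z} : Set G)) :
    δ g ∈ Subgroup.centralizer ({z} : Set G) := by
  rw [Subgroup.mem_centralizer_singleton_iff] at hg ⊢
  have := congrArg δ hg
  rwa [map_mul, map_mul, hz] at this

/-- The restriction. -/
def restr (δ : MulAut G) (hz : δ z = z) :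
    ↥(Subgroup.centralizer ({z} : Set G)) →* ↥(Subgroup.centralizer ({z} : Set G)) where
  toFun c := ⟨δ c, map_cent δ hz c.2⟩
  map_one' := Subtype.ext (map_one δ)
  map_mul' a b := Subtype.ext (map_mul δ (a : G) b)

theorem restr_coe (δ : MulAut G) (hz : δ z = z) (c : ↥(Subgroup.centralizer ({z} : Set G))) :
    (restr δ hz c : G) = δ c := rfl

theorem restr_surjective (δ : MulAut G) (hz : δ z = z) : Function.Surjective (restr δ hz) := by
  refine Finite.surjective_of_injective fun a b hab => Subtype.ext (δ.injective ?_)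
  exact congrArg Subtype.val hab

/-- A scalar goes to a scalar or to its square. -/
theorem scalar_image (h : LF z (qImg Q) π ψ) {g₀ : G} (hu : g₀ * z * g₀⁻¹ ∈ qImg Q) (hne : g₀ * z * g₀⁻¹ ≠ z)
    (δ : MulAut G) (hz : δ z = z) (hQ : ∀ a ∈ qImg Q, δ a ∈ qImg Q) :
    ∃ c : ↥(Subgroup.centralizer ({z} : Set G)), (c : G) ^ 3 = 1 ∧ (∀ v, ψ c v = omV v) ∧
      ((∀ v, ψ (restr δ hz c) v = omV v) ∨ ∀ v, ψ (restr δ hz c) v = omV (omV v)) := by
  classical
  obtain ⟨N, M, hNn, hMn, hNM, hidx, -, hQN, ⟨n, hn, hnω⟩, ⟨eU⟩, hsimp, hU, -, -, hcases⟩ := h.exists_M hu hne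
  haveI := hNn
  haveI := hMn
  set ρ := restr δ hz with hρ
  have hkerQ : ∀ c, ψ c = 1 ↔ c ∈ Q := fun c => (h.ker c).trans mem_qImg_coe
  have hρQ : ∀ c ∈ Q, ρ c ∈ Q := fun c hc => mem_qImg_coe.1 (hQ _ (mem_qImg_coe.2 hc))
  have hcube : ∀ c ∈ N, c ^ 3 ∈ Q := by
    intro c hc
    rcases hcases c hc with e | e | e
    · exact pow_mem e 3
    all_goals
      refine (hkerQ _).1 (LinearEquiv.ext fun v => ?_)
      rw [map_pow, pow_succ, pow_two]
      show ψ c (ψ c (ψ c v)) = v
      simp only [e, omV_cube]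
  have himg : ∀ c ∈ N, ρ c ∈ N := by
    intro c hc
    have h3 : ∀ b ∈ N, (ρ b) ^ 3 ∈ Q := fun b hb => by rw [← map_pow]; exact hρQ _ (hcube b hb)
    have hM : ∀ b ∈ N, ρ b ∈ M := fun b hb => by
      have a1 := hNM (hQN (h3 b hb))
      rw [pow_succ] at a1
      have a2 := Subgroup.sq_mem_of_index_two hidx (ρ b)
      simpa using (M.mul_mem_cancel_left a2).1 a1
    haveI : (N.map ρ).Normal := Subgroup.Normal.map hNn ρ (restr_surjective δ hz)
    set p := QuotientGroup.mk' (N.subgroupOf M) with hp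
    haveI : IsSimpleGroup (↥M ⧸ N.subgroupOf M) := eU.isSimpleGroup
    rcases (Subgroup.Normal.map (inferInstance : ((N.map ρ).subgroupOf M).Normal) p
      (QuotientGroup.mk'_surjective _)).eq_bot_or_eq_top with e | e
    · have hm : (⟨ρ c, hM c hc⟩ : ↥M) ∈ (N.map ρ).subgroupOf M := ⟨c, hc, rfl⟩
      have := Subgroup.mem_map_of_mem p hm
      rw [e, Subgroup.mem_bot] at this
      exact Subgroup.mem_subgroupOf.1 ((QuotientGroup.eq_one_iff (⟨ρ c, hM c hc⟩ : ↥M)).1 this)
    · exfalso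
      haveI : Finite U43 := Nat.finite_of_card_ne_zero (by rw [hU]; norm_num)
      haveI : Fact (Nat.Prime 2) := ⟨Nat.prime_two⟩
      obtain ⟨b, hb⟩ := exists_prime_orderOf_dvd_card' (G := U43) 2 (by rw [hU]; norm_num)
      obtain ⟨m, ⟨b', hb', e1⟩, e2⟩ := (e ▸ Subgroup.mem_top (eU.symm b) :
        eU.symm b ∈ ((N.map ρ).subgroupOf M).map p)
      have e3 : p m ^ 3 = 1 := by
        rw [← map_pow]
        exact (QuotientGroup.eq_one_iff (m ^ 3)).2 (Subgroup.mem_subgroupOf.2 (by
          show ((m : ↥(Subgroup.centralizer ({z} : Set G))) ^ 3) ∈ N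
          have e1' : ρ b' = (m : ↥(Subgroup.centralizer ({z} : Set G))) := e1
          rw [← e1']
          exact hQN (h3 b' hb')))
      rw [e2, ← map_pow, MulEquiv.map_eq_one_iff] at e3
      have := orderOf_dvd_of_pow_eq_one e3
      rw [hb] at this
      omega
  -- an element of order dividing three
  have hQ4 : ∀ a ∈ qImg Q, a ^ 4 = 1 := fun a ha => by
    rw [show a ^ 4 = (a * a) * (a * a) by rw [← pow_two, ← pow_two, ← pow_mul]]
    rcases h.extra.sq_cases ha with e | e <;> rw [e]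
    · exact one_mul 1
    · exact h.extra.z_sq
  refine ⟨n ^ 4, ?_, fun v => ?_, ?_⟩
  · rw [SubgroupClass.coe_pow, ← pow_mul, show 4 * 3 = 3 * 4 by rfl, pow_mul]
    refine hQ4 _ ?_
    rw [← SubgroupClass.coe_pow]
    exact mem_qImg_coe.2 (hcube n hn)
  · rw [map_pow, pow_succ, pow_succ, pow_two]
    show ψ n (ψ n (ψ n (ψ n v))) = _
    simp only [hnω, omV_cube]
  · rcases hcases _ (himg _ (pow_mem hn 4)) with e | e | e
    · exfalso
      have e1 : ρ (n ^ 4) ∈ Q := e
      have hinj : Function.Injective (fun a : ↥Q => (⟨ρ a, hρQ a a.2⟩ : ↥Q)) := fun a b hab =>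
        Subtype.ext (Subtype.ext (δ.injective (congrArg (fun x : ↥Q => ((x : ↥(Subgroup.centralizer ({z} : Set G))) : G)) hab)))
      obtain ⟨a, ha⟩ := (Finite.surjective_of_injective hinj) ⟨ρ (n ^ 4), e1⟩
      have e2 : (a : ↥(Subgroup.centralizer ({z} : Set G))) = n ^ 4 :=
        Subtype.ext (δ.injective (congrArg (fun x : ↥Q => ((x : ↥(Subgroup.centralizer ({z} : Set G))) : G)) ha))
      have e3 := (hkerQ _).2 (e2 ▸ a.2)
      have e4 : omV c2 = c2 := by
        rw [← hnω]
        have e5 : ψ (n ^ 4) c2 = c2 := by rw [e3]; rfl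
        rw [map_pow, pow_succ, pow_succ, pow_two] at e5
        change ψ n (ψ n (ψ n (ψ n c2))) = c2 at e5
        simp only [hnω, omV_cube] at e5 ⊢
        exact e5
      revert e4
      decide
    · exact Or.inl e
    · exact Or.inr e

end CfsgLib.Sporadic.LargeFischerOuter
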